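import Groth.Agent.L15.CohFlat
import Groth.Agent.L00.StalkFunctor
import Groth.Agent.L06.SupportStalk
import Groth.Agent.L06.FibTrdeg
import Groth.Agent.L04.RegularPd
import Groth.Agent.L16.CohKernel
import Groth.Agent.L16.NegPow.Gen
import Groth.Agent.L17.ClosedPush
import Groth.Agent.L18.LocFreeTilde
import Groth.Agent.L21.Bundle.DualityApps
import Groth.Agent.L21.RR.Coh
import Groth.Prelude.Def_TorSh

/-!
Local facts for modules supported on a curve in a regular surface.
-/

set_option autoImplicit false
set_option backward.isDefEq.respectTransparency false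
set_option linter.style.haveILetI false
universe u

open CategoryTheory CategoryTheory.Limits AlgebraicGeometry TopologicalSpace IsLocalRing

noncomputable section

namespace Groth.L03.SurfExt

variable {X : Scheme.{u}}

/-- Off the generic point an integral scheme has a nonzero element in the maximal ideal. -/
theorem exists_mem_maximal_ne_zero [IsIntegral X] [IsLocallyNoetherian X] {x : X} (hx : x ≠ genericPoint ↥X) :
    ∃ a ∈ maximalIdeal (X.presheaf.stalk x), a ≠ 0 := by
  by_contra hc
  push Not at hc
  have hf : IsField (X.presheaf.stalk x) :=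
    IsLocalRing.isField_iff_maximalIdeal_eq.2 (eq_bot_iff.2 fun a ha => hc a ha)
  have h := Groth.L06.FibTrdeg.ringKrullDim_stalk_lt ((genericPoint_spec ↥X).specializes trivial : genericPoint ↥X ⤳ x) hx.symm
  rw [ringKrullDim_eq_zero_of_isField hf] at h
  exact not_le.2 h ringKrullDim_nonneg_of_nontrivial

/-- A module with torsion free stalks on an integral scheme has positive depth off the generic point. -/
theorem one_le_depth_of_torsionFree [IsIntegral X] [IsLocallyNoetherian X] {M : X.Modules}
    {x : X} (hM : Module.IsTorsionFree (X.presheaf.stalk x) (M.presheaf.stalk x)) (hx : x ≠ genericPoint ↥X) :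
    (1 : ℕ∞) ≤ LocCoh.depth (X.presheaf.stalk x) (M.presheaf.stalk x) := by
  obtain ⟨a, ha, h0⟩ := exists_mem_maximal_ne_zero hx
  exact Groth.L04.one_le_idealDepth_of_regular ha fun v w h =>
    smul_right_injective (M.presheaf.stalk x) h0 h

/-- An invertible module has positive depth off the generic point. -/
theorem one_le_depth_invertible [IsIntegral X] [IsLocallyNoetherian X] {L : X.Modules}
    (hL : PicF.IsInvertible L) {x : X} (hx : x ≠ genericPoint ↥X) :
    (1 : ℕ∞) ≤ LocCoh.depth (X.presheaf.stalk x) (L.presheaf.stalk x) := by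
  obtain ⟨e, he⟩ := Groth.L21.RR.exists_frame_stalk hL x
  obtain ⟨a, ha, h0⟩ := exists_mem_maximal_ne_zero hx
  refine Groth.L04.one_le_idealDepth_of_regular ha fun v w h => ?_
  obtain ⟨r, rfl⟩ := he.2 v
  obtain ⟨s, rfl⟩ := he.2 w
  simp only [smul_smul] at h
  exact congrArg (· • e) (mul_left_cancel₀ h0 (he.1 h))

/-- The pushforward of a torsion free module on an integral curve has positive depth at the closed points. -/
theorem one_le_depth_push {C : Scheme.{u}} [IsIntegral C] [IsLocallyNoetherian C] (j : C ⟶ X) [IsClosedImmersion j]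
    {M : C.Modules} (hM : TorSh.IsTorsionFree M) {c : C} (hc : c ≠ genericPoint ↥C) :
    (1 : ℕ∞) ≤ LocCoh.depth (X.presheaf.stalk (j c)) (((Coh.push j).obj M).presheaf.stalk (j c)) := by
  obtain ⟨a, ha, h0⟩ := exists_mem_maximal_ne_zero hc
  obtain ⟨b, rfl⟩ := j.stalkMap_surjective c a
  have hb : b ∈ maximalIdeal (X.presheaf.stalk (j c)) := by
    by_contra hb
    exact ha ((IsLocalRing.notMem_maximalIdeal.1 hb).map (j.stalkMap c).hom)
  refine Groth.L04.one_le_idealDepth_of_regular hb fun v w h => ?_
  refine (Groth.L17.ClosedPush.c₀_bijective j M c).1 ?_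
  haveI := hM c
  refine smul_right_injective (M.presheaf.stalk c) h0 ?_
  exact (Groth.L17.ClosedPush.c₀_smul j M c b v).symm.trans ((congrArg (Groth.L17.ClosedPush.c₀ j M c) h).trans
    (Groth.L17.ClosedPush.c₀_smul j M c b w))

/-- The generic point of a surface is not on a curve. -/
theorem genericPoint_notMem_range [IsIntegral X] (hX : topologicalKrullDim X = 2) {C : Scheme.{u}} (j : C ⟶ X)
    [IsClosedImmersion j] (hC : topologicalKrullDim C = 1) : genericPoint ↥X ∉ Set.range j := by
  intro hmem
  have hu : Set.range j = Set.univ := Set.eq_univ_of_univ_subset (by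
    rw [← genericPoint_closure ↥X]
    exact closure_minimal (Set.singleton_subset_iff.2 hmem) j.isClosedEmbedding.isClosed_range)
  have hh : IsHomeomorph j :=
    isHomeomorph_iff_isEmbedding_surjective.2 ⟨j.isClosedEmbedding.isEmbedding, Set.range_eq_univ.1 hu⟩
  have h := hh.topologicalKrullDim_eq
  rw [hX, hC] at h
  exact absurd h (by decide)

/-- The non-closed points of a surface have one-dimensional local rings at most. -/
theorem ringKrullDim_le_one [IsLocallyNoetherian X] (hX : topologicalKrullDim X ≤ 2) {x : X}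
    (hx : ¬ IsClosed ({x} : Set ↥X)) : ringKrullDim (X.presheaf.stalk x) ≤ 1 := by
  obtain ⟨y, hy, hne⟩ : ∃ y, x ⤳ y ∧ x ≠ y := by
    by_contra hc
    push Not at hc
    exact hx (closure_subset_iff_isClosed.1 fun y hy => (hc y (specializes_iff_mem_closure.2 hy)).symm)
  have h := (Groth.L06.FibTrdeg.ringKrullDim_stalk_lt hy hne).trans_le
    ((Groth.L15.CohFlat.ringKrullDim_stalk_le y).trans hX)
  obtain ⟨d, hd⟩ := WithBot.ne_bot_iff_exists.1 (ringKrullDim_ne_bot (R := X.presheaf.stalk x))
  rw [← hd] at h ⊢
  have h' : d < 2 := WithBot.coe_lt_coe.1 h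
  exact WithBot.coe_le_coe.2 (ENat.lt_add_one_iff (by simp) |>.1 (by rwa [show (1 : ℕ∞) + 1 = 2 from rfl]))

/-- On a regular surface, a syzygy of a module of positive depth at its closed points is locally free. -/
theorem isFinLocFree_kernel [IsLocallyNoetherian X] (hreg : ∀ x : X, IsRegularLocalRing (X.presheaf.stalk x))
    (hX : topologicalKrullDim X ≤ 2) {P F : X.Modules} (hP : FlatMod.IsFinLocFree P) (hF : Coh.IsCoh F)
    (hdep : ∀ x : X, IsClosed ({x} : Set ↥X) → ¬ Subsingleton (F.presheaf.stalk x) →
      (1 : ℕ∞) ≤ LocCoh.depth (X.presheaf.stalk x) (F.presheaf.stalk x))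
    (p : P ⟶ F) [Epi p] : FlatMod.IsFinLocFree (kernel p) := by
  have hPc : Coh.IsCoh P := Groth.L16.NegPow.isCoh_of_isFinLocFree hP
  refine Groth.L15.CohFlat.isFinLocFree_of_isCoh_isFlat _
    (Groth.L16.CohKernel.isCoh_kernel_cokernel hPc hF p).1 fun x => ?_
  haveI := hreg x
  let Φ := Groth.L00.Stk.F X x
  let S := ShortComplex.mk (kernel.ι p) p (kernel.condition p)
  have hS : S.ShortExact := { exact := ShortComplex.exact_kernel p }
  have hSx := hS.map_of_exact Φ
  haveI := Groth.L18.LFP.free_stalk P hP x
  haveI : Module.Free (X.presheaf.stalk x) (Φ.obj P) := this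
  have hproj : Projective (Φ.obj P) := (IsProjective.iff_projective _).mp inferInstance
  haveI : HasProjectiveDimensionLE (Φ.obj F) 1 := by
    obtain ⟨d, hd⟩ : ∃ d : ℕ, ringKrullDim (X.presheaf.stalk x) = d := by
      have hdx := (Groth.L15.CohFlat.ringKrullDim_stalk_le x).trans hX
      obtain ⟨e, he⟩ := WithBot.ne_bot_iff_exists.1 (ringKrullDim_ne_bot (R := X.presheaf.stalk x))
      obtain ⟨d, hd⟩ := ENat.ne_top_iff_exists.1 (show e ≠ ⊤ from fun h => by
        rw [← he, h] at hdx
        exact absurd (WithBot.coe_le_coe.1 hdx) (by simp))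
      exact ⟨d, by rw [← he, ← hd]; rfl⟩
    haveI := Groth.L06.SupportStalk.finite_stalk F hF x
    refine Groth.L04.hasProjectiveDimensionLE_of_dim_le_add_depth (F.presheaf.stalk x) hd ?_
    rcases subsingleton_or_nontrivial (F.presheaf.stalk x) with hs | hs
    · rw [LocCoh.depth, Groth.L04.idealDepth_eq_top]
      · simp
      · exact Subsingleton.elim _ _
    by_cases hx : IsClosed ({x} : Set ↥X)
    · have h1 : (d : ℕ∞) ≤ 2 := by
        have := (Groth.L15.CohFlat.ringKrullDim_stalk_le x).trans hX
        rw [hd] at this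
        exact_mod_cast this
      exact h1.trans ((show (2 : ℕ∞) = 1 + 1 from rfl).le.trans
        (by push_cast; exact add_le_add le_rfl (hdep x hx (not_subsingleton _))))
    · have h1 := ringKrullDim_le_one hX hx
      rw [hd] at h1
      have h1' : (d : ℕ∞) ≤ 1 := by exact_mod_cast h1
      exact h1'.trans (by push_cast; exact le_self_add)
  have h2 : HasProjectiveDimensionLT (S.map Φ).X₂ 1 :=
    projective_iff_hasProjectiveDimensionLT_one.1 hproj
  have h3 : HasProjectiveDimensionLT (S.map Φ).X₃ (1 + 1) := ‹HasProjectiveDimensionLE (Φ.obj F) 1›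
  have hpk : Projective (Φ.obj (kernel p)) :=
    projective_iff_hasProjectiveDimensionLT_one.2 (hSx.hasProjectiveDimensionLT_X₁ 1 h2 h3)
  haveI : Module.Projective (X.presheaf.stalk x) (Φ.obj (kernel p)) := (IsProjective.iff_projective _).mpr hpk
  exact (Module.Flat.of_projective : Module.Flat (X.presheaf.stalk x) (Φ.obj (kernel p)))

end Groth.L03.SurfExt
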