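import Groth.Agent.L03.SurfExt.Seq
import Groth.Agent.L03.SurfExt.Local
import Groth.Agent.L03.SurfAdj.Canonical
import Groth.Agent.L03.SurfAdj.Basic
import Groth.Agent.L22.ExtSh.DualCM
import Groth.Agent.L00.SheafHom
import Groth.Agent.S15517

/-!
The Ext sheaf and the Ext group into the canonical module of a torsion free module on a curve in a surface.
-/

set_option autoImplicit false
set_option backward.isDefEq.respectTransparency false
set_option linter.style.haveILetI false
universe u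

open CategoryTheory CategoryTheory.Limits CategoryTheory.Abelian AlgebraicGeometry TopologicalSpace Opposite

noncomputable section

namespace Groth.L03.SurfExt

open Groth.L16
open Groth.L16.HomSh (homMod homModF)
open Groth.L22.ExtSh (E homModSiteIso additive_homModF)
open Groth.L22.PDual (pre')
open Groth.L16.CohLinear (hmap overLin delta exact_hmap_delta exact_hmap_hmap)

variable {k : Type u} [Field k] {X : Scheme.{u}} [X.Over (Spec (CommRingCat.of k))]
  [IsProper (X ↘ Spec (CommRingCat.of k))]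

/-- The chosen sheaf of homomorphisms is the sheaf of compatible families. -/
def dIso {Y : Scheme.{u}} (F : Y.Modules) [DCoh.HasSheafHom F] : DCoh.sheafHom F ≅ homModF F :=
  Groth.L16.HomSh.sheafHomIso F

/-- The chosen derived sheaf of homomorphisms is the Ext sheaf. -/
theorem nonempty_rightDerived_iso {Y : Scheme.{u}} [HasInjectiveResolutions Y.Modules] (F G : Y.Modules)
    [DCoh.HasSheafHom F] [(DCoh.sheafHom F).Additive] (i : ℕ) :
    Nonempty (((DCoh.sheafHom F).rightDerived i).obj G ≅ E F G i) := by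
  haveI := additive_homModF F
  exact ⟨(Groth.L15.ModTensor.rdIso (dIso F) i).app G⟩

/-- `Hom(F, G) ≅ H⁰(Hom(F, G))` for the sheaf of compatible families. -/
theorem nonempty_ext_zero_equiv [HasExt.{u} X.Modules] (F G : X.Modules) :
    Nonempty (Ext F G 0 ≃ₗ[k] Coh.HH X (homMod F G) 0) := by
  haveI := Groth.L00.Tensor.dcoh_hasSheafHom F
  exact ⟨(Ext.linearEquiv₀.trans (Groth.L22.PDual.η F G)).trans (hLin ((dIso F).app G) 0)⟩
where
  hLin {A B : X.Modules} (e : A ≅ B) (i : ℕ) : Coh.HH X A i ≃ₗ[k] Coh.HH X B i :=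
    LinearEquiv.ofLinear (overLin k (hmap e.hom i)) (overLin k (hmap e.inv i))
      (LinearMap.ext fun x => by
        show hmap e.hom i (hmap e.inv i x) = x
        rw [← Groth.L16.CohLinear.hmap_comp, e.inv_hom_id, Groth.L16.CohLinear.hmap_id])
      (LinearMap.ext fun x => by
        show hmap e.inv i (hmap e.hom i x) = x
        rw [← Groth.L16.CohLinear.hmap_comp, e.hom_inv_id, Groth.L16.CohLinear.hmap_id])

/-- The canonical module is dualizing. -/
theorem exists_dualizing_topDiff (k : Type u) [Field k] [IsAlgClosed k] {X : Scheme.{u}}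
    [X.Over (Spec (CommRingCat.of k))] [IsProper (X ↘ Spec (CommRingCat.of k))] [IsIntegral X]
    (hdim : topologicalKrullDim X = 2) (hreg : ∀ x : X, IsRegularLocalRing (X.presheaf.stalk x))
    (hproj : ∃ (n : ℕ) (ι : X ⟶ CohB1.ProjSpace n k), IsClosedImmersion ι ∧
      ι ≫ CohB1.ProjSpace.toSpec n k = X ↘ Spec (CommRingCat.of k))
    {W : X.Modules} (hW : ExtPow.IsExtPow 2 (Omega.sheaf (X ↘ Spec (CommRingCat.of k))) W) :
    PicF.IsInvertible W ∧ ∃ t : Coh.HH X W 2 →ₗ[k] k, Groth.L22.DualCM.IsDual t := by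
  obtain ⟨ω, t, hωc, hωi, hdual⟩ := Groth.L03.SurfDual.exists_dualizing k hdim hreg hproj
  obtain ⟨hf, hf0, hRR⟩ := Groth.L03.SurfDual.canonical_of_dualizing k hdim hreg hproj t hωc hωi hdual
  obtain ⟨e⟩ := Groth.L03.SurfAdj.exists_canonical_iso k (hdim.trans Nat.cast_ofNat.symm) hreg hW hωi hf hf0 hRR
  refine ⟨Groth.L18.Ample.isInvertible_of_iso e hωi, t.comp (overLin k (hmap e.inv 2)), fun F hF ψ => ?_⟩
  obtain ⟨φ, hφ, hu⟩ := hdual F hF ψ
  have key : ∀ (χ : F ⟶ W) (x : Coh.HH X F 2),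
      (t.comp (overLin k (hmap e.inv 2))) (hmap χ 2 x) = t (hmap (χ ≫ e.inv) 2 x) := fun χ x => by
    rw [Groth.L16.CohLinear.hmap_comp]
    rfl
  refine ⟨φ ≫ e.hom, fun x => (hφ x).trans ?_, fun χ hχ => ?_⟩
  · refine Eq.trans ?_ (key (φ ≫ e.hom) x).symm
    rw [Category.assoc, e.hom_inv_id, Category.comp_id]
    rfl
  · rw [← Iso.comp_inv_eq]
    exact hu _ fun x => (hχ x).trans (key χ x)

variable [IsIntegral X] [HasExt.{u} X.Modules] [HasInjectiveResolutions X.Modules] {ω : X.Modules}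
  {C : Scheme.{u}} [IsIntegral C] (j : C ⟶ X) [IsClosedImmersion j] {M : C.Modules}

/-- The pushforward of a module on a curve misses the generic point. -/
theorem ne_genericPoint_of_mem_support (hX : topologicalKrullDim X = 2) (hC : topologicalKrullDim C = 1)
    {y : X} (hy : y ∈ CohB1.support ((Coh.push j).obj M)) : y ≠ genericPoint ↥X := fun h =>
  genericPoint_notMem_range hX j hC (h ▸ Groth.L16.CohClosedPush.support_push_subset j M hy)

/-- A locally free resolution of length one, adapted to the dualizing module, of a module of positive depth at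
its closed points which vanishes at the generic point. -/
theorem exists_resolution_of_depth (hreg : ∀ x : X, IsRegularLocalRing (X.presheaf.stalk x))
    (hX : topologicalKrullDim X = 2) {N : ℕ} (ι : X ⟶ CohB1.ProjSpace N k)
    [IsClosedImmersion ι] (hω : PicF.IsInvertible ω) {F : X.Modules} (hFc : Coh.IsCoh F)
    (hgen : Subsingleton (F.presheaf.stalk (genericPoint ↥X)))
    (hdep : ∀ x : X, IsClosed ({x} : Set ↥X) → ¬ Subsingleton (F.presheaf.stalk x) →
      (1 : ℕ∞) ≤ LocCoh.depth (X.presheaf.stalk x) (F.presheaf.stalk x)) :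
    ∃ S : ShortComplex X.Modules, S.ShortExact ∧ S.X₃ = F ∧
      FlatMod.IsFinLocFree S.X₁ ∧ FlatMod.IsFinLocFree S.X₂ ∧ Coh.IsCoh S.X₁ ∧ Coh.IsCoh S.X₂ ∧
      Coh.IsCoh S.X₃ ∧ Subsingleton (Ext S.X₂ ω 1) ∧ IsZero (E S.X₃ ω 0) ∧
      ∃ (b : homMod S.X₁ ω ⟶ E S.X₃ ω 1) (w : pre' ω S.f ≫ b = 0),
        (ShortComplex.mk (pre' ω S.f) b w).ShortExact := by
  haveI := Groth.L21.RR.isNoetherian_of_proper (X := X) k
  haveI := Groth.L00.Tensor.grothendieckAbelian_modules X
  have hωc := Groth.L18.Ample.isCoh_of_isInvertible hω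
  obtain ⟨d, hd⟩ := Groth.L22.ExtSh.exists_ext_twist_vanish_all ι hωc
  obtain ⟨q, r, p, hq, hp⟩ := Groth.L22.DualCM.exists_epi_sum ι hFc d.toNat
  haveI := hp
  have hPf : FlatMod.IsFinLocFree (∐ fun _ : Fin r => (Scheme.Modules.pullback ι).obj
      (Groth.L22.Reg.O' N k (-(q : ℤ)))) :=
    Groth.L29.DC.isFinLocFree_coprod_fin r _ fun _ => Groth.L29.LocFree.pullback ι
      (Groth.L20.ResDescent.isFinLocFree_of_isInvertible (Groth.L16.ProjTwist.isInvertible_twistProjSpace N k _))
  have hPc := Groth.L16.NegPow.isCoh_of_isFinLocFree hPf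
  let S := ShortComplex.mk (kernel.ι p) p (kernel.condition p)
  have hS : S.ShortExact := { exact := ShortComplex.exact_kernel p }
  have hK : FlatMod.IsFinLocFree (kernel p) := isFinLocFree_kernel hreg hX.le hPf hFc hdep p
  have hKc := Groth.L16.NegPow.isCoh_of_isFinLocFree hK
  have h0 : IsZero (E F ω 0) := isZero_E_zero hFc hωc fun y hy =>
    one_le_depth_invertible hω (fun h => hy (h ▸ hgen))
  have h1 : IsZero (E S.X₂ ω 1) := Groth.L22.ExtSh.isZero_E_free hPc hPf ω 0
  refine ⟨S, hS, rfl, hK, hPf, hKc, hPc, hFc, ?_, h0, exists_shortExact_pre hS hKc hPc hFc ω h0 h1⟩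
  exact Groth.L10.AcycObj.subsingleton_ext_coprod _ ω (fun _ i => hd q (by omega) (i + 1) (Nat.succ_pos i)) 0


/-- A locally free resolution of length one of a torsion free module on a curve, adapted to the dualizing module. -/
theorem exists_resolution (hreg : ∀ x : X, IsRegularLocalRing (X.presheaf.stalk x))
    (hX : topologicalKrullDim X = 2) (hC : topologicalKrullDim C = 1) {N : ℕ} (ι : X ⟶ CohB1.ProjSpace N k)
    [IsClosedImmersion ι] (hω : PicF.IsInvertible ω) (hM : Coh.IsCoh M) (hMtf : TorSh.IsTorsionFree M) :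
    ∃ S : ShortComplex X.Modules, S.ShortExact ∧ S.X₃ = (Coh.push j).obj M ∧
      FlatMod.IsFinLocFree S.X₁ ∧ FlatMod.IsFinLocFree S.X₂ ∧ Coh.IsCoh S.X₁ ∧ Coh.IsCoh S.X₂ ∧
      Coh.IsCoh S.X₃ ∧ Subsingleton (Ext S.X₂ ω 1) ∧ IsZero (E S.X₃ ω 0) ∧
      ∃ (b : homMod S.X₁ ω ⟶ E S.X₃ ω 1) (w : pre' ω S.f ≫ b = 0),
        (ShortComplex.mk (pre' ω S.f) b w).ShortExact := by
  haveI := Groth.L21.RR.isNoetherian_of_proper (X := X) k
  haveI : IsLocallyNoetherian C := LocallyOfFiniteType.isLocallyNoetherian j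
  obtain ⟨F, hF⟩ : ∃ F, F = (Coh.push j).obj M := ⟨_, rfl⟩
  have hFc : Coh.IsCoh F := hF ▸ Groth.L16.CohClosedPush.isCoh_push j hM
  have hdep : ∀ x : X, IsClosed ({x} : Set ↥X) → ¬ Subsingleton (F.presheaf.stalk x) →
      (1 : ℕ∞) ≤ LocCoh.depth (X.presheaf.stalk x) (F.presheaf.stalk x) := by
    intro x hx hns
    subst hF
    obtain ⟨c, rfl⟩ := Groth.L16.CohClosedPush.support_push_subset j M (show x ∈ CohB1.support _ from hns)
    refine one_le_depth_push j hMtf fun hc => Groth.L21.Bundle.not_isClosed_generic hC ?_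
    subst hc
    have : ({genericPoint ↥C} : Set C) = j ⁻¹' {j (genericPoint ↥C)} := by
      ext z
      simp [j.isClosedEmbedding.injective.eq_iff]
    rw [this]
    exact hx.preimage j.continuous
  have hgen : Subsingleton (F.presheaf.stalk (genericPoint ↥X)) := by
    by_contra h
    have hm : genericPoint ↥X ∈ CohB1.support ((Coh.push j).obj M) := by
      rw [← hF]
      exact h
    exact genericPoint_notMem_range hX j hC (Groth.L16.CohClosedPush.support_push_subset j M hm)
  rw [← hF]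
  exact exists_resolution_of_depth hreg hX ι hω hFc hgen hdep

/-- `Ext¹(F, ω)` has the dimension of the sections of the Ext sheaf. -/
theorem finite_and_finrank_ext_one {S : ShortComplex X.Modules} (hS : S.ShortExact)
    (hf : FlatMod.IsFinLocFree S.X₂) (h₁ : Coh.IsCoh S.X₁) (h₂ : Coh.IsCoh S.X₂) (hω : Coh.IsCoh ω)
    (hE : Subsingleton (Ext S.X₂ ω 1)) (h0 : IsZero (E S.X₃ ω 0))
    {b : homMod S.X₁ ω ⟶ E S.X₃ ω 1} {w : pre' ω S.f ≫ b = 0}
    (hb : (ShortComplex.mk (pre' ω S.f) b w).ShortExact) :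
    Module.Finite k (Ext S.X₃ ω 1) ∧ Module.Finite k (Coh.HH X (E S.X₃ ω 1) 0) ∧
      Module.finrank k (Ext S.X₃ ω 1) = Module.finrank k (Coh.HH X (E S.X₃ ω 1) 0) := by
  haveI := Groth.L21.RR.isNoetherian_of_proper (X := X) k
  obtain ⟨η₁⟩ := nonempty_ext_zero_equiv (k := k) S.X₁ ω
  obtain ⟨η₂⟩ := nonempty_ext_zero_equiv (k := k) S.X₂ ω
  obtain ⟨η₃⟩ := nonempty_ext_zero_equiv (k := k) S.X₃ ω
  have c₁ := Groth.L16.HomSh.isCoh_homMod h₁ hω
  have c₂ := Groth.L16.HomSh.isCoh_homMod h₂ hω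
  haveI := Groth.L16.ProperFinite.finite_HH k c₁ 0
  haveI := Groth.L16.ProperFinite.finite_HH k c₂ 0
  haveI : Module.Finite k (Ext S.X₁ ω 0) := Module.Finite.equiv η₁.symm
  haveI : Module.Finite k (Ext S.X₂ ω 0) := Module.Finite.equiv η₂.symm
  haveI : Subsingleton (Ext S.X₃ ω 0) :=
    haveI := Groth.L03.Euler.subsingleton_HH_of_isZero (h0.of_iso (eZeroIso S.X₃ ω).symm) 0
    η₃.toEquiv.subsingleton
  -- the groups
  let f := Ext.precompOfLinear (Ext.mk₀ S.f) k ω (zero_add 0)
  let ε := Ext.precompOfLinear hS.extClass k ω (show 1 + 0 = 1 from rfl)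
  have hε : Function.Surjective ε := fun x =>
    Ext.contravariant_sequence_exact₃ hS _ x (Subsingleton.elim _ _) rfl
  have hf' : Function.Injective f := by
    rw [injective_iff_map_eq_zero]
    intro z hz
    obtain ⟨y, rfl⟩ := Ext.contravariant_sequence_exact₂ hS ω z hz
    rw [Subsingleton.elim y 0, Ext.comp_zero]
  have hker : LinearMap.ker ε = LinearMap.range f := by
    refine le_antisymm (fun y hy => ?_) ?_
    · obtain ⟨z, hz⟩ := Ext.contravariant_sequence_exact₁ hS ω y (n₁ := 1) rfl hy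
      exact ⟨z, hz⟩
    · rintro _ ⟨z, rfl⟩
      show hS.extClass.comp ((Ext.mk₀ S.f).comp z (zero_add 0)) rfl = 0
      rw [← Ext.comp_assoc_of_second_deg_zero, hS.extClass_comp, Ext.zero_comp]
  have fin1 : Module.Finite k (Ext S.X₃ ω 1) := Module.Finite.of_surjective ε hε
  have e1 := LinearMap.finrank_range_add_finrank_ker ε
  rw [LinearMap.range_eq_top.2 hε, _root_.finrank_top, hker, LinearMap.finrank_range_of_inj hf'] at e1
  -- the sections
  haveI : Subsingleton (Coh.HH X (homMod S.X₂ ω) 1) := by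
    haveI := Groth.L00.Tensor.dcoh_hasSheafHom S.X₂
    obtain ⟨e⟩ := Groth.L22.PDual.nonempty_ext_linearEquiv (k := k) S.X₂ hf 1 ω
    exact Groth.L16.ProjSpace.subsingleton_of_iso ((dIso S.X₂).app ω).symm 1 e.symm.toEquiv.subsingleton
  let g := overLin k (hmap (pre' ω S.f) 0)
  let β := overLin k (hmap b 0)
  have hβ : Function.Surjective β := fun x =>
    (exact_hmap_delta hb 0 x).1 (Subsingleton.elim (α := Coh.HH X (homMod S.X₂ ω) 1) _ _)
  have hg : Function.Injective g := fun _ _ h =>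
    (Groth.L03.Euler.injective_hmap_zero (S := ShortComplex.mk (pre' ω S.f) b w) hb) h
  have hker' : LinearMap.ker β = LinearMap.range g := by
    ext x
    exact exact_hmap_hmap hb 0 x
  have e2 := LinearMap.finrank_range_add_finrank_ker β
  rw [LinearMap.range_eq_top.2 hβ, _root_.finrank_top, hker', LinearMap.finrank_range_of_inj hg] at e2
  refine ⟨fin1, Module.Finite.of_surjective β hβ, ?_⟩
  rw [η₁.finrank_eq, η₂.finrank_eq] at e1
  omega

end Groth.L03.SurfExt
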