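import Groth.Agent.L03.SurfExt.Curve
import Mathlib.LinearAlgebra.Dual.Lemmas

/-!
Biduality with values in an invertible module and the involution on torsion free modules on a curve.
-/

set_option autoImplicit false
set_option backward.isDefEq.respectTransparency false
set_option linter.style.haveILetI false
universe u

open CategoryTheory CategoryTheory.Limits CategoryTheory.Abelian AlgebraicGeometry TopologicalSpace Opposite

noncomputable section

namespace Groth.L03.SurfExt

open Groth.L16.HomSh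
open Groth.L18.Frame (rs ro rs_rs rs_smul rs_self ro_self ro_ro)
open Groth.L22.ExtSh (E)
open Groth.L22.PDual (pre' stalkHom)

variable {X : Scheme.{u}}

/-- Evaluation at a section, as a family. -/
def bdFam (P N : X.Modules) {U : X.Opens} (p : Γ(P, U)) : Sec (homMod P N) N U :=
  ⟨fun W => AddMonoidHom.mk' (fun φ => ev (secEquiv W.1 φ) le_rfl (rs P W.2 p)) fun _ _ => rfl,
    fun W W' h h' φ => by
      show rs N h' (ev (secEquiv W φ) le_rfl (rs P h p)) =
        ev (secEquiv W' (rs (homMod P N) h' φ)) le_rfl (rs P (h'.trans h) p)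
      rw [ev_rs, secEquiv_rs, rs_rs],
    fun W h a φ => by
      show ev (secEquiv W (a • φ)) le_rfl (rs P h p) = a • ev (secEquiv W φ) le_rfl (rs P h p)
      rw [map_smul, ev_smulSec, ro_self]⟩

theorem ev_bdFam {P N : X.Modules} {U : X.Opens} (p : Γ(P, U)) {W : X.Opens} (h : W ≤ U)
    (φ : Γ(homMod P N, W)) : ev (bdFam P N p) h φ = ev (secEquiv W φ) le_rfl (rs P h p) := rfl

theorem bdFam_add (P N : X.Modules) {U : X.Opens} (p q : Γ(P, U)) :
    bdFam P N (p + q) = bdFam P N p + bdFam P N q := sec_ext fun W h φ => by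
  show ev (bdFam P N (p + q)) h φ = ev (bdFam P N p) h φ + ev (bdFam P N q) h φ
  rw [ev_bdFam, ev_bdFam, ev_bdFam, show rs P h (p + q) = rs P h p + rs P h q from map_add _ _ _, map_add]

theorem bdFam_smul (P N : X.Modules) {U : X.Opens} (r : Γ(X, U)) (p : Γ(P, U)) :
    bdFam P N (r • p) = r • bdFam P N p := sec_ext fun W h φ => by
  rw [ev_smulSec, ev_bdFam, ev_bdFam, rs_smul, ev_smul]

theorem bdFam_res (P N : X.Modules) {U V : X.Opens} (i : V ≤ U) (p : Γ(P, U)) :
    bdFam P N (rs P i p) = resSec i (bdFam P N p) := sec_ext fun W h φ => by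
  show _ = ev (bdFam P N p) (h.trans i) φ
  rw [ev_bdFam, ev_bdFam, rs_rs]

/-- The map to the double dual. -/
def bd (P N : X.Modules) : P ⟶ homMod (homMod P N) N :=
  ⟨PresheafOfModules.homMk
    { app := fun U => AddCommGrpCat.ofHom (AddMonoidHom.mk' (fun p : Γ(P, U.unop) => bdFam P N p) (bdFam_add P N))
      naturality := fun U V i => by
        ext p
        exact bdFam_res P N i.unop.le p }
    (fun U r p => bdFam_smul P N _ p)⟩

theorem ev_bd (P N : X.Modules) (U : X.Opens) (p : Γ(P, U)) {W : X.Opens} (h : W ≤ U) (φ : Γ(homMod P N, W)) :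
    ev (secEquiv U ((bd P N).app U p)) h φ = ev (secEquiv W φ) le_rfl (rs P h p) := rfl

theorem bd_natural {P Q : X.Modules} (N : X.Modules) (f : P ⟶ Q) :
    bd P N ≫ pre' N (pre' N f) = f ≫ bd Q N := hom_ext_ev fun U p W h φ => by
  show ev (secEquiv W ((pre' N f).app W φ)) le_rfl (rs P h p) = ev (secEquiv W φ) le_rfl (rs Q h (f.app U p))
  rw [Groth.L22.PDual.ev_pre', hom_app_rs]

theorem stalkHom_bd (P N : X.Modules) (x : X) (v : P.presheaf.stalk x) (θ : (homMod P N).presheaf.stalk x) :
    stalkHom (homMod P N) N x (RefHull.stalkMapₗ (bd P N) x v) θ = stalkHom P N x θ v := by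
  obtain ⟨U, hx, p, rfl⟩ := TopCat.Presheaf.exists_germ_eq P.presheaf v
  obtain ⟨W, hW, hxW, φ, rfl⟩ := Groth.L15.Ref.exists_rep hx θ
  rw [RefHull.stalkMapₗ_germ, Groth.L22.PDual.stalkHom_germ _ N x hx _ hW hxW, ev_bd,
    ← TopCat.Presheaf.germ_res_apply P.presheaf (homOfLE hW) x hxW p,
    Groth.L22.PDual.stalkHom_germ P N x hxW φ le_rfl hxW]

theorem stalk_equiv_of_invertible {L : X.Modules} (hL : PicF.IsInvertible L) (x : X) :
    Nonempty (X.presheaf.stalk x ≃ₗ[X.presheaf.stalk x] L.presheaf.stalk x) := by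
  obtain ⟨e, he⟩ := Groth.L21.RR.exists_frame_stalk hL x
  exact ⟨LinearEquiv.ofBijective (LinearMap.toSpanSingleton _ _ e) he⟩

/-- The dual of a finite locally free module is finite locally free. -/
theorem isFinLocFree_homMod [IsLocallyNoetherian X] {P L : X.Modules} (hP : FlatMod.IsFinLocFree P)
    (hL : PicF.IsInvertible L) : FlatMod.IsFinLocFree (homMod P L) := by
  have hPc := Groth.L16.NegPow.isCoh_of_isFinLocFree hP
  have hLc := Groth.L18.Ample.isCoh_of_isInvertible hL
  haveI : Coh.IsQCoh L := hLc.1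
  refine Groth.L15.CohFlat.isFinLocFree_of_isCoh_isFlat _ (isCoh_homMod hPc hLc) fun x => ?_
  haveI := Groth.L18.LFP.free_stalk P hP x
  haveI := Groth.L06.SupportStalk.finite_stalk P hPc x
  obtain ⟨e⟩ := stalk_equiv_of_invertible hL x
  let h := LinearEquiv.ofBijective (stalkHom P L x) (Groth.L22.PDual.bijective_stalkHom P L hPc x)
  haveI : Module.Free (X.presheaf.stalk x) (L.presheaf.stalk x) := Module.Free.of_equiv e
  haveI : Module.Finite (X.presheaf.stalk x) (L.presheaf.stalk x) := Module.Finite.equiv e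
  haveI : Module.Free (X.presheaf.stalk x) (RefHull.StalkHom P L x) :=
    inferInstanceAs (Module.Free (X.presheaf.stalk x) (P.presheaf.stalk x →ₗ[X.presheaf.stalk x] L.presheaf.stalk x))
  haveI : Module.Free (X.presheaf.stalk x) ((homMod P L).presheaf.stalk x) := Module.Free.of_equiv h.symm
  exact Module.Flat.of_free

/-- Biduality for finite locally free modules. -/
theorem isIso_bd [IsLocallyNoetherian X] {P L : X.Modules} (hP : FlatMod.IsFinLocFree P)
    (hL : PicF.IsInvertible L) : IsIso (bd P L) := by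
  have hPc := Groth.L16.NegPow.isCoh_of_isFinLocFree hP
  have hLc := Groth.L18.Ample.isCoh_of_isInvertible hL
  haveI : Coh.IsQCoh L := hLc.1
  refine (Groth.L21.Mod.isIso_iff_stalk_bijective _).2 fun x => ?_
  haveI := Groth.L18.LFP.free_stalk P hP x
  haveI := Groth.L06.SupportStalk.finite_stalk P hPc x
  obtain ⟨e⟩ := stalk_equiv_of_invertible hL x
  have hH := Groth.L22.PDual.bijective_stalkHom (homMod P L) L (isCoh_homMod hPc hLc) x
  have hP' := Groth.L22.PDual.bijective_stalkHom P L hPc x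
  have hev := Module.bijective_dual_eval (X.presheaf.stalk x) (P.presheaf.stalk x)
  have key : ∀ (v : P.presheaf.stalk x) (θ : (homMod P L).presheaf.stalk x),
      stalkHom (homMod P L) L x (RefHull.stalkMapₗ (bd P L) x v) θ = stalkHom P L x θ v := stalkHom_bd P L x
  refine ⟨fun v w h => hev.1 (LinearMap.ext fun ψ => ?_), fun Θ => ?_⟩
  · obtain ⟨θ, hθ⟩ := hP'.2 (e.toLinearMap.comp ψ)
    refine e.injective ?_
    show e.toLinearMap.comp ψ v = e.toLinearMap.comp ψ w
    rw [← hθ, ← key, ← key]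
    exact congrArg (fun z => stalkHom (homMod P L) L x z θ) h
  · let h := LinearEquiv.ofBijective (stalkHom P L x) hP'
    let Ψ : Module.Dual (X.presheaf.stalk x) (Module.Dual (X.presheaf.stalk x) (P.presheaf.stalk x)) :=
      { toFun := fun ψ => e.symm (stalkHom (homMod P L) L x Θ (h.symm (e.toLinearMap.comp ψ)))
        map_add' := fun a b => by
          rw [LinearMap.comp_add, show h.symm (e.toLinearMap.comp a + e.toLinearMap.comp b) =
            h.symm (e.toLinearMap.comp a) + h.symm (e.toLinearMap.comp b) from h.symm.map_add _ _, map_add, map_add]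
        map_smul' := fun r a => by
          rw [LinearMap.comp_smul, show h.symm (r • e.toLinearMap.comp a) = r • h.symm (e.toLinearMap.comp a) from
            h.symm.map_smul _ _, map_smul, map_smul]
          rfl }
    obtain ⟨v, hv⟩ := hev.2 Ψ
    refine ⟨v, hH.1 (LinearMap.ext fun θ => (key v θ).trans ?_)⟩
    have h1 := LinearMap.congr_fun hv (e.symm.toLinearMap.comp (h θ))
    have h2 : e.toLinearMap.comp (e.symm.toLinearMap.comp (h θ)) = h θ :=
      LinearMap.ext fun z => e.apply_symm_apply _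
    change e.symm (h θ v) = e.symm (stalkHom (homMod P L) L x Θ
      (h.symm (e.toLinearMap.comp (e.symm.toLinearMap.comp (h θ))))) at h1
    rw [h2, h.symm_apply_apply] at h1
    exact e.symm.injective h1

/-- The dual of a module vanishing at the generic point vanishes there. -/
theorem subsingleton_dual_eta [IsLocallyNoetherian X] [IsIntegral X] {S : ShortComplex X.Modules} (hS : S.ShortExact)
    (hf₁ : FlatMod.IsFinLocFree S.X₁) (hf₂ : FlatMod.IsFinLocFree S.X₂) {L : X.Modules} (hL : PicF.IsInvertible L)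
    (hη : Subsingleton (S.X₃.presheaf.stalk (genericPoint ↥X))) {A : X.Modules}
    (b : homMod S.X₁ L ⟶ A) (w : pre' L S.f ≫ b = 0) (hb : (ShortComplex.mk (pre' L S.f) b w).ShortExact) :
    Subsingleton (A.presheaf.stalk (genericPoint ↥X)) := by
  have h₁ := Groth.L16.NegPow.isCoh_of_isFinLocFree hf₁
  have h₂ := Groth.L16.NegPow.isCoh_of_isFinLocFree hf₂
  haveI : Coh.IsQCoh L := (Groth.L18.Ample.isCoh_of_isInvertible hL).1
  let T := ShortComplex.mk (pre' L S.f) b w
  let η := genericPoint ↥X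
  have hSη := (Groth.L21.Mod.shortExact_iff_stalk S).1 hS η
  have hfs : Function.Surjective (RefHull.stalkMapₗ S.f η) := fun v =>
    (ShortComplex.ab_exact_iff _).1 hSη.exact v (Subsingleton.elim (α := S.X₃.presheaf.stalk η) _ _)
  have hfi : Function.Injective (RefHull.stalkMapₗ S.f η) := (AddCommGrpCat.mono_iff_injective _).1 hSη.mono_f
  let fe := LinearEquiv.ofBijective _ ⟨hfi, hfs⟩
  refine subsingleton_of_forall_eq 0 fun a => ?_
  have hTη := (Groth.L21.Mod.shortExact_iff_stalk T).1 hb η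
  obtain ⟨θ, rfl⟩ := (AddCommGrpCat.epi_iff_surjective _).1 hTη.epi_g a
  obtain ⟨θ', hθ'⟩ := (Groth.L22.PDual.bijective_stalkHom S.X₂ L h₂ η).2
    ((stalkHom S.X₁ L η θ).comp fe.symm.toLinearMap)
  have hθ : RefHull.stalkMapₗ (pre' L S.f) η θ' = θ := by
    refine (Groth.L22.PDual.bijective_stalkHom S.X₁ L h₁ η).1
      ((Groth.L22.PDual.stalkHom_pre' S.f η θ').trans (LinearMap.ext fun v => ?_))
    rw [hθ']
    exact congrArg (stalkHom S.X₁ L η θ) (fe.symm_apply_apply v)
  exact (congrArg _ hθ.symm).trans (ConcreteCategory.congr_hom (T.map (Groth.L21.Mod.stalkF X η)).zero θ')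

variable [HasInjectiveResolutions X.Modules]

/-- The double dual of a cokernel of finite locally free modules. -/
theorem nonempty_bidual_iso [IsLocallyNoetherian X] [IsIntegral X] {S : ShortComplex X.Modules} (hS : S.ShortExact)
    (hf₁ : FlatMod.IsFinLocFree S.X₁) (hf₂ : FlatMod.IsFinLocFree S.X₂) {L : X.Modules} (hL : PicF.IsInvertible L)
    (hη : Subsingleton (S.X₃.presheaf.stalk (genericPoint ↥X))) {A : X.Modules}
    (b : homMod S.X₁ L ⟶ A) (w : pre' L S.f ≫ b = 0) (hb : (ShortComplex.mk (pre' L S.f) b w).ShortExact) :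
    Nonempty (E A L 1 ≅ S.X₃) := by
  have h₁ := Groth.L16.NegPow.isCoh_of_isFinLocFree hf₁
  have h₂ := Groth.L16.NegPow.isCoh_of_isFinLocFree hf₂
  have hLc := Groth.L18.Ample.isCoh_of_isInvertible hL
  haveI : Coh.IsQCoh L := hLc.1
  have hK := isFinLocFree_homMod hf₁ hL
  have hP := isFinLocFree_homMod hf₂ hL
  have hKc := Groth.L16.NegPow.isCoh_of_isFinLocFree hK
  have hPc := Groth.L16.NegPow.isCoh_of_isFinLocFree hP
  let T := ShortComplex.mk (pre' L S.f) b w
  have hAc : Coh.IsCoh A := by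
    haveI := hb.epi_g
    exact Groth.L16.CohSupport.isCoh_of_iso
      ((cokernelIsCokernel (pre' L S.f)).coconePointUniqueUpToIso hb.exact.gIsCokernel)
      (Groth.L16.CohKernel.isCoh_kernel_cokernel hPc hKc (pre' L S.f)).2
  have hAη := subsingleton_dual_eta hS hf₁ hf₂ hL hη b w hb
  have h0 : IsZero (E A L 0) := isZero_E_zero hAc hLc fun y hy =>
    one_le_depth_invertible hL fun h => hy (by subst h; exact hAη)
  have h1 : IsZero (E (homMod S.X₁ L) L 1) := Groth.L22.ExtSh.isZero_E_free hKc hK L 0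
  obtain ⟨c, wc, hc⟩ := exists_shortExact_pre hb hPc hKc hAc L h0 h1
  haveI := isIso_bd hf₁ hL
  haveI := isIso_bd hf₂ hL
  haveI := hS.epi_g
  haveI := hc.epi_g
  let e : cokernel S.f ≅ cokernel (pre' L (pre' L S.f)) :=
    cokernel.mapIso S.f (pre' L (pre' L S.f)) (asIso (bd S.X₁ L)) (asIso (bd S.X₂ L)) (bd_natural L S.f).symm
  exact ⟨((cokernelIsCokernel _).coconePointUniqueUpToIso hc.exact.gIsCokernel).symm ≪≫ e.symm ≪≫
    (cokernelIsCokernel S.f).coconePointUniqueUpToIso hS.exact.gIsCokernel⟩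

end Groth.L03.SurfExt
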