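import Groth.Agent.L22.ExtSh.Coherence
import Groth.Agent.L22.ExtSh.DepthExt
import Groth.Agent.L22.PDual.ExtSheafHom

/-!
The contravariant sequence of sheaves of homomorphisms of a short exact sequence, up to the first
Ext sheaf, with the first map identified with precomposition.
-/

set_option autoImplicit false
set_option backward.isDefEq.respectTransparency false
set_option linter.style.haveILetI false
universe u

open CategoryTheory CategoryTheory.Limits CategoryTheory.Abelian AlgebraicGeometry TopologicalSpace Opposite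

noncomputable section

namespace Groth.L03.SurfExt

open Groth.L16.HomSh (homMod homModF)
open Groth.L22.ExtSh (E preNat additive_homModF)
open Groth.L22.PDual (pre')

variable {X : Scheme.{u}}

theorem preservesFiniteLimits_homModF (M : X.Modules) : PreservesFiniteLimits (homModF M) := by
  haveI := (Groth.L16.HomSh.tensorHomAdj M).rightAdjoint_preservesLimits
  infer_instance

variable [HasInjectiveResolutions X.Modules]

theorem exists_shortExact_pre [IsLocallyNoetherian X] {S : ShortComplex X.Modules} (hS : S.ShortExact)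
    (h₁ : Coh.IsCoh S.X₁) (h₂ : Coh.IsCoh S.X₂) (h₃ : Coh.IsCoh S.X₃) (G : X.Modules)
    (h0 : IsZero (E S.X₃ G 0)) (h1 : IsZero (E S.X₂ G 1)) :
    ∃ (b : homMod S.X₁ G ⟶ E S.X₃ G 1) (w : pre' G S.f ≫ b = 0),
      (ShortComplex.mk (pre' G S.f) b w).ShortExact := by
  let I := injectiveResolution G
  let Φ : ∀ M : X.Modules, CochainComplex X.Modules ℕ := fun M =>
    haveI := additive_homModF M
    ((homModF M).mapHomologicalComplex _).obj I.cocomplex
  haveI := additive_homModF S.X₁
  haveI := additive_homModF S.X₂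
  haveI := additive_homModF S.X₃
  haveI := preservesFiniteLimits_homModF S.X₁
  haveI := preservesFiniteLimits_homModF S.X₂
  let T : ShortComplex (CochainComplex X.Modules ℕ) :=
    ShortComplex.mk (X₁ := Φ S.X₃) (X₂ := Φ S.X₂) (X₃ := Φ S.X₁)
      ((NatTrans.mapHomologicalComplex (preNat S.g) _).app I.cocomplex)
      ((NatTrans.mapHomologicalComplex (preNat S.f) _).app I.cocomplex) (by
        refine HomologicalComplex.hom_ext _ _ fun j => ?_
        show pre' (I.cocomplex.X j) S.g ≫ pre' (I.cocomplex.X j) S.f = 0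
        rw [← Groth.L22.PDual.pre'_comp, S.zero, Groth.L22.PDual.pre'_zero])
  have hT : T.ShortExact := HomologicalComplex.shortExact_of_degreewise_shortExact _ fun j =>
    Groth.L22.ExtSh.shortExact_pre hS h₁ h₂ h₃ (I.cocomplex.X j)
  let c2 : homMod S.X₂ G ⟶ T.X₂.cycles 0 := I.toRightDerivedZero' (homModF S.X₂)
  let c1 : homMod S.X₁ G ⟶ T.X₃.cycles 0 := I.toRightDerivedZero' (homModF S.X₁)
  haveI : IsIso c2 := inferInstanceAs (IsIso (I.toRightDerivedZero' (homModF S.X₂)))
  haveI : IsIso c1 := inferInstanceAs (IsIso (I.toRightDerivedZero' (homModF S.X₁)))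
  let d2 : homMod S.X₂ G ≅ T.X₂.homology 0 := asIso c2 ≪≫ CochainComplex.isoHomologyπ₀ T.X₂
  let d1 : homMod S.X₁ G ≅ T.X₃.homology 0 := asIso c1 ≪≫ CochainComplex.isoHomologyπ₀ T.X₃
  have hsq : pre' G S.f ≫ c1 = c2 ≫ HomologicalComplex.cyclesMap T.g 0 := by
    rw [← cancel_mono (HomologicalComplex.iCycles T.X₃ 0)]
    rw [Category.assoc, Category.assoc, HomologicalComplex.cyclesMap_i]
    show pre' G S.f ≫ I.toRightDerivedZero' (homModF S.X₁) ≫ _ =
      I.toRightDerivedZero' (homModF S.X₂) ≫ _ ≫ _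
    refine (congrArg (pre' G S.f ≫ ·) (I.toRightDerivedZero'_comp_iCycles (homModF S.X₁))).trans ?_
    refine Eq.trans ?_ ((congrArg (· ≫ T.g.f 0) (I.toRightDerivedZero'_comp_iCycles (homModF S.X₂))).symm.trans
      (Category.assoc _ _ _))
    exact ((preNat S.f).naturality (I.ι.f 0)).symm
  have hd : pre' G S.f ≫ d1.hom = d2.hom ≫ HomologicalComplex.homologyMap T.g 0 := by
    show pre' G S.f ≫ c1 ≫ T.X₃.homologyπ 0 = (c2 ≫ T.X₂.homologyπ 0) ≫ _
    rw [reassoc_of% hsq, Category.assoc, HomologicalComplex.homologyπ_naturality]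
  let e : E S.X₃ G 1 ≅ T.X₁.homology 1 := I.isoRightDerivedObj (homModF S.X₃) 1
  let b : homMod S.X₁ G ⟶ E S.X₃ G 1 := d1.hom ≫ hT.δ 0 1 rfl ≫ e.inv
  have w : pre' G S.f ≫ b = 0 := by
    simp only [b, reassoc_of% hd, reassoc_of% (hT.comp_δ 0 1 rfl), zero_comp, comp_zero]
  have z0 : IsZero (T.X₁.homology 0) := h0.of_iso (I.isoRightDerivedObj (homModF S.X₃) 0).symm
  have z1 : IsZero (T.X₂.homology 1) := h1.of_iso (I.isoRightDerivedObj (homModF S.X₂) 1).symm
  have hm : Mono (HomologicalComplex.homologyMap T.g 0) :=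
    (hT.homology_exact₂ 0).mono_g (z0.eq_of_src _ _)
  have hepi : Epi (hT.δ 0 1 rfl) := (hT.homology_exact₁ 0 1 rfl).epi_f (z1.eq_of_tgt _ _)
  let e' : ShortComplex.mk (pre' G S.f) b w ≅
      ShortComplex.mk (HomologicalComplex.homologyMap T.g 0) (hT.δ 0 1 rfl) (hT.comp_δ 0 1 rfl) :=
    ShortComplex.isoMk d2 d1 e hd.symm (by simp [b])
  refine ⟨b, w, ShortComplex.shortExact_of_iso e'.symm ?_⟩
  exact { exact := hT.homology_exact₃ 0 1 rfl, mono_f := hm, epi_g := hepi }

/-- The zeroth Ext sheaf is the sheaf of homomorphisms. -/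
def eZeroIso (F G : X.Modules) : E F G 0 ≅ homMod F G :=
  haveI := additive_homModF F
  haveI := preservesFiniteLimits_homModF F
  (homModF F).rightDerivedZeroIsoSelf.app G

/-- Maps out of a coherent module vanish as a sheaf when the target has positive depth on its support. -/
theorem isZero_E_zero [IsLocallyNoetherian X] {F G : X.Modules} (hF : Coh.IsCoh F) (hG : Coh.IsCoh G)
    (h : ∀ y ∈ CohB1.support F, (1 : ℕ∞) ≤ LocCoh.depth (X.presheaf.stalk y) (G.presheaf.stalk y)) :
    IsZero (E F G 0) := by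
  haveI := Groth.L17.Duality.hasSheafHom F
  haveI : HasInjectiveResolutions (ModSite.Mod X.sheaf) := ‹HasInjectiveResolutions X.Modules›
  obtain ⟨e⟩ := Groth.L22.ExtSh.nonempty_extSh_iso F G 0
  refine IsZero.of_iso ((Groth.L22.ExtSh.isZero_extSh_iff hF G 0).2 fun x => ?_) e.symm
  exact Groth.L22.ExtSh.subsingleton_ext_stalk_of_depth hF hG (n := 1) (fun y hy => by exact_mod_cast h y hy) x
    Nat.one_pos

end Groth.L03.SurfExt
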