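import Groth.Agent.L03.SurfExt.EndEuler
import Groth.Agent.L03.ShStab.TrivialGG
import Groth.Agent.L21.Bundle.Tors
import Groth.Agent.L21.Bundle.Calc
import Groth.Agent.L03.SurfAdj.Embed
import Groth.Agent.L03.ConnH0
import Groth.Agent.L03.ShStab.ExtTwistPn

/-!
The globally generated part of an invertible module on a curve inside a surface, and `h² = h⁰` for
endomorphisms.
-/

set_option autoImplicit false
set_option backward.isDefEq.respectTransparency false
set_option linter.style.haveILetI false
set_option linter.unusedSectionVars false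
universe u

open CategoryTheory CategoryTheory.Limits AlgebraicGeometry

noncomputable section

namespace Groth.L03.SurfExt

open Groth.L16.CohLinear Groth.L00.Tensor
open Groth.L16.HomSh (homMod homModF)

variable {k : Type u} [Field k] [IsAlgClosed k] {X : Scheme.{u}} [X.Over (Spec (CommRingCat.of k))]
  [IsProper (X ↘ Spec (CommRingCat.of k))] [IsIntegral X]
  {C : Scheme.{u}} [C.Over (Spec (CommRingCat.of k))] [IsIntegral C]
  [Smooth (C ↘ Spec (CommRingCat.of k))]

/-- An invertible module with sections on a curve contains an invertible submodule generated by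
all of them, with no smaller `h¹`. -/
theorem exists_generated_part (hC : topologicalKrullDim C = 1) (i : C ⟶ X) [IsClosedImmersion i]
    (hi : i ≫ (X ↘ Spec (CommRingCat.of k)) = C ↘ Spec (CommRingCat.of k))
    (A : C.Modules) (hA : PicF.IsInvertible A) (h0 : Module.finrank k (Coh.HH C A 0) ≠ 0) :
    ∃ (A' : C.Modules) (e : ℕ) (lam : FlatMod.freeMod X e ⟶ (Coh.push i).obj A'),
      PicF.IsInvertible A' ∧ Epi lam ∧
      Function.Bijective (Sheaf.H.map ((SheafOfModules.toSheaf _).map lam) 0) ∧
      Module.finrank k (Coh.HH C A' 0) = Module.finrank k (Coh.HH C A 0) ∧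
      Module.finrank k (Coh.HH C A 1) ≤ Module.finrank k (Coh.HH C A' 1) := by
  haveI := Groth.L21.RR.isNoetherian_of_proper (X := X) k
  haveI : IsProper (C ↘ Spec (CommRingCat.of k)) := hi ▸ inferInstance
  haveI := Groth.L21.RR.isNoetherian_of_proper (X := C) k
  haveI : X.IsSeparated := ⟨by rw [← terminal.comp_from (X ↘ Spec (CommRingCat.of k))]; infer_instance⟩
  have hregC := fun x => Groth.L03.SurfAdj.reg_of_smooth k (X := C) x
  have hAc := Groth.L18.Ample.isCoh_of_isInvertible hA
  let P := (Coh.push i).obj A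
  have hPc : Coh.IsCoh P := isCoh_push_of i hAc
  haveI := Groth.L16.ProperFinite.finite_HH k hPc 0
  haveI : Coh.IsQCoh A := hAc.1
  have hP0 : Module.finrank k (Coh.HH X P 0) = Module.finrank k (Coh.HH C A 0) :=
    Groth.L21.P1.h_push_affine k i hi A 0
  let b := Module.finBasis k (Coh.HH X P 0)
  let e := Module.finrank k (Coh.HH X P 0)
  let t : Fin e → Γ(A, ⊤) := fun j => Groth.L21.RR.e0 P (b j)
  let φ : FlatMod.freeMod C e ⟶ A := Sigma.desc fun j => Groth.L16.homOfSection A (t j)
  have hfreeC : Coh.IsCoh (FlatMod.freeMod C e) :=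
    Groth.L16.NegPow.isCoh_of_isFinLocFree (Groth.L29.DC.isFinLocFree_coprod_fin e _ fun _ =>
      Groth.L20.ResDescent.isFinLocFree_of_isInvertible (Groth.L18.Ample.isInvertible_structureModule C))
  let A' := Abelian.image φ
  have hA'c : Coh.IsCoh A' := Groth.L21.Bundle.coh_image hfreeC hAc φ
  let ι : A' ⟶ A := Abelian.image.ι φ
  have hrA := Groth.L18.KRRAmple.isRankOne_of_isInvertible hA
  have hl : FlatMod.IsFinLocFreeOfRank (Groth.L21.Bundle.rk A') A' :=
    Groth.L21.Bundle.locFree_of_mono hregC hC.le ι hA'c hrA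
  let s : Fin e → Γ(A', ⊤) := fun j =>
    (Abelian.factorThruImage φ).app ⊤ (Groth.L03.ShStab.TrivialGG.unitVec e j)
  have hst : ∀ j, ι.app ⊤ (s j) = t j := fun j => by
    refine Eq.trans ?_ (Groth.L03.ShStab.TrivialGG.desc_unitVec t j)
    show (Abelian.factorThruImage φ ≫ ι).app ⊤ _ = _
    rw [Abelian.image.fac]
  have hr : Groth.L21.Bundle.rk A' = 1 := by
    have h1 := Groth.L21.Bundle.rk_le_of_mono ι hA'c hAc
    rw [Groth.L21.Bundle.rk_eq hrA] at h1
    rcases Nat.eq_zero_or_pos (Groth.L21.Bundle.rk A') with h | h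
    · exfalso
      rw [h] at hl
      have hz : ι = 0 := (Groth.L21.Bundle.isZero_of_rank_zero hl).eq_of_src _ _
      have hpos : 0 < e := Nat.pos_of_ne_zero fun he => h0 (hP0.symm.trans he)
      refine b.ne_zero ⟨0, hpos⟩ ((Groth.L21.RR.e0 P).injective ?_)
      rw [map_zero]
      show t _ = _
      rw [← hst, hz]
      rfl
    · omega
  rw [hr] at hl
  have hA' : PicF.IsInvertible A' := Groth.L03.ShStab.ExtTwistPn.isInvertible_of_rank_one hl
  let lam : FlatMod.freeMod X e ⟶ (Coh.push i).obj A' :=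
    Sigma.desc fun j => Groth.L16.homOfSection ((Coh.push i).obj A') (s j)
  have hlu : ∀ j, lam.app ⊤ (Groth.L03.ShStab.TrivialGG.unitVec e j) = s j := fun j =>
    Groth.L03.ShStab.TrivialGG.desc_unitVec (M := (Coh.push i).obj A') s j
  have hepi : Epi lam := by
    rw [Groth.L21.Mod.epi_iff_stalk_surjective]
    intro x v
    by_cases hx : x ∈ Set.range i
    swap
    · haveI := Groth.L17.ClosedPush.subsingleton_stalk_push i A' hx
      exact ⟨0, @Subsingleton.elim _ this _ _⟩
    obtain ⟨c, rfl⟩ := hx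
    obtain ⟨w, hw⟩ := (Groth.L21.Mod.epi_iff_stalk_surjective (Abelian.factorThruImage φ)).1 inferInstance c
      (Groth.L17.ClosedPush.c₀ i A' c v)
    obtain ⟨a, rfl⟩ := (Groth.L03.ShStab.TrivialGG.bijective_unitVec e c).2 w
    choose a' ha' using fun j => i.stalkMap_surjective c (a j)
    refine ⟨∑ j, a' j • (FlatMod.freeMod X e).presheaf.germ ⊤ (i c) trivial
      (Groth.L03.ShStab.TrivialGG.unitVec e j), (Groth.L17.ClosedPush.c₀_bijective i A' c).1 ?_⟩
    rw [← hw]
    show Groth.L17.ClosedPush.c₀ i A' c (RefHull.stalkMapₗ lam (i c) _) =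
      RefHull.stalkMapₗ (Abelian.factorThruImage φ) c _
    rw [map_sum, map_sum, map_sum]
    refine Finset.sum_congr rfl fun j _ => ?_
    rw [map_smul (RefHull.stalkMapₗ (Abelian.factorThruImage φ) c), map_smul (RefHull.stalkMapₗ lam (i c)),
      RefHull.stalkMapₗ_germ, RefHull.stalkMapₗ_germ, hlu]
    refine (Groth.L17.ClosedPush.c₀_smul i A' c _ _).trans ?_
    refine Eq.trans ?_ (congrArg (· • (A'.presheaf.germ ⊤ c trivial (s j) : A'.presheaf.stalk c)) (ha' j))
    exact congrArg _ (Groth.L17.ClosedPush.c₀_germ i A' c _ _)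
  -- the sections
  have hO : Module.finrank k (Coh.HH X (FlatMod.freeMod X e) 0) = e := by
    rw [finrank_h0_free, show Module.finrank k (Coh.HH X (Coh.structureModule X) 0) = 1 from
      Groth.L03.ConnH0.h0_structure_eq_one k, mul_one]
  let pι := (Coh.push i).map ι
  haveI : Mono pι := inferInstance
  let L := overLin k (hmap (lam ≫ pι) 0)
  have hsurj : Function.Surjective L := by
    rw [← LinearMap.range_eq_top, ← top_le_iff, ← b.span_eq, Submodule.span_le]
    rintro _ ⟨j, rfl⟩
    refine ⟨(Groth.L21.RR.e0 _).symm (Groth.L03.ShStab.TrivialGG.unitVec e j), (Groth.L21.RR.e0 P).injective ?_⟩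
    refine (Groth.L21.RR.e0_hmap _ _).trans ?_
    rw [AddEquiv.apply_symm_apply]
    exact (congrArg (pι.app ⊤) (hlu j)).trans (hst j)
  haveI := Groth.L16.ProperFinite.finite_HH k
    (Groth.L16.NegPow.isCoh_of_isFinLocFree (Groth.L29.DC.isFinLocFree_coprod_fin e
      (fun _ : Fin e => Coh.structureModule X) fun _ =>
      Groth.L20.ResDescent.isFinLocFree_of_isInvertible (Groth.L18.Ample.isInvertible_structureModule X))) 0
  have hinj : Function.Injective L := (LinearMap.injective_iff_surjective_of_finrank_eq_finrank hO).2 hsurj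
  have hpι := Groth.L21.RR.injective_hmap_zero (f := pι)
  have hlam : Function.Bijective (hmap lam 0) := by
    refine ⟨fun x y h => hinj ?_, fun y => ?_⟩
    · show hmap (lam ≫ pι) 0 x = hmap (lam ≫ pι) 0 y
      rw [hmap_comp, hmap_comp, h]
    · obtain ⟨x, hx⟩ := hsurj (hmap pι 0 y)
      refine ⟨x, hpι ?_⟩
      rw [← hmap_comp]
      exact hx
  refine ⟨A', e, lam, hA', hepi, hlam, ?_, ?_⟩
  · haveI : Coh.IsQCoh A' := hA'c.1
    refine Eq.trans ?_ hP0
    refine Eq.trans (Groth.L21.P1.h_push_affine k i hi A' 0).symm ?_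
    exact ((LinearEquiv.ofBijective (overLin k (hmap lam 0)) hlam).finrank_eq).symm.trans hO
  · haveI := Groth.L16.ProperFinite.finite_HH k hA'c 1
    refine LinearMap.finrank_le_finrank_of_surjective (f := overLin k (hmap ι 1)) ?_
    refine Groth.L21.RR.surjective_hmap_one_of_suppClosed hC.le ι ?_
    refine Groth.L21.Bundle.suppClosed_of_rk_eq_zero hC.le (Groth.L21.Bundle.coh_cokernel hA'c hAc ι) ?_
    have h := Groth.L21.Bundle.rk_add (S := ShortComplex.mk ι (cokernel.π ι) (cokernel.condition ι))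
      { exact := ShortComplex.exact_cokernel ι } hAc
    change Groth.L21.Bundle.rk A = Groth.L21.Bundle.rk A' + Groth.L21.Bundle.rk (cokernel ι) at h
    rw [Groth.L21.Bundle.rk_eq hrA, hr] at h
    omega

/-- `h²` of the endomorphisms is `h⁰`. -/
theorem Ctx.finrank_end_two (c : Ctx k X (Coh.structureModule X)) {F : X.Modules} (hF : FlatMod.IsFinLocFree F) :
    Module.finrank k (Coh.HH X (RefHull.homSh F F) 2) = Module.finrank k (F ⟶ F) ∧
    Module.finrank k (Coh.HH X (RefHull.homSh F F) 0) = Module.finrank k (F ⟶ F) := by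
  haveI := Groth.L21.RR.isNoetherian_of_proper (X := X) k
  let O := Coh.structureModule X
  have hO := Groth.L18.Ample.isInvertible_structureModule X
  let F' := homMod F O
  have hF' : FlatMod.IsFinLocFree F' := isFinLocFree_homMod hF hO
  haveI := Groth.L17.Duality.hasSheafHom F
  let e₀ : RefHull.homSh F F ≅ homMod F F :=
    @asIso _ _ _ _ (Groth.L15.Ref.toHomMod F F) (Groth.L15.Ref.isIso_toHomMod _ _)
  let eE : RefHull.homSh F F ≅ CohB1.tensorMod F' F :=
    e₀ ≪≫ ((Groth.L22.ExtSh.homModSiteIso F).app F).symm ≪≫ ((Groth.L17.Duality.tensorDualIso F hF).app F).symm ≪≫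
      tensorIso (Iso.refl F) ((Groth.L22.ExtSh.homModSiteIso F).app O) ≪≫ tensorComm F F'
  have hG : FlatMod.IsFinLocFree (CohB1.tensorMod F' F) := Groth.L29.DC.isFinLocFree_tensor hF' hF
  have h0 : Module.finrank k (Coh.HH X (RefHull.homSh F F) 0) = Module.finrank k (F ⟶ F) := by
    rw [finrank_hom, Groth.L03.Euler.finrank_HH_of_iso e₀]
  refine ⟨?_, h0⟩
  rw [Groth.L03.Euler.finrank_HH_of_iso eE]
  have h := c.finrank_HH_dual hG (i := 0) (Nat.zero_le _)
  rw [Nat.sub_zero, ← finrank_hom (k := k) (CohB1.tensorMod F' F) O] at h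
  rw [← h, (curryLin (k := k) F' F O).finrank_eq]
  haveI := isIso_bd hF hO
  exact ((Linear.homCongr k (Iso.refl F) (asIso (bd F O))).finrank_eq).symm

end Groth.L03.SurfExt
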