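import Groth.Agent.L03.SurfExt.Good
import Groth.Agent.L03.SurfAdj.Tools
import Groth.Agent.S15517

/-!
Duality for good modules on a surface: dimensions, biduality, dual maps and global generation.
-/

set_option autoImplicit false
set_option backward.isDefEq.respectTransparency false
set_option linter.style.haveILetI false
set_option linter.unusedSectionVars false
universe u

open CategoryTheory CategoryTheory.Limits CategoryTheory.Abelian AlgebraicGeometry TopologicalSpace Opposite
open IsLocalRing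

noncomputable section

namespace Groth.L03.SurfExt

open Groth.L16
open Groth.L16.HomSh (homMod homModF)
open Groth.L22.ExtSh (E preNat additive_homModF)
open Groth.L22.PDual (pre')
open Groth.L21.RR (SuppClosed)
open Groth.L16.CohLinear (hmap overLin exact_hmap_hmap exact_hmap_delta exact_delta_hmap)

variable {k : Type u} [Field k] {X : Scheme.{u}} [X.Over (Spec (CommRingCat.of k))]
  [IsProper (X ↘ Spec (CommRingCat.of k))] [IsIntegral X] {ω : X.Modules}

/-- The standing facts about the surface and its dualizing module. -/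
structure Ctx (k : Type u) [Field k] (X : Scheme.{u}) [X.Over (Spec (CommRingCat.of k))]
    [IsProper (X ↘ Spec (CommRingCat.of k))] [IsIntegral X] (ω : X.Modules) : Prop where
  reg : ∀ x : X, IsRegularLocalRing (X.presheaf.stalk x)
  dim : topologicalKrullDim X = 2
  proj : ∃ (n : ℕ) (ι : X ⟶ CohB1.ProjSpace n k), IsClosedImmersion ι ∧
      ι ≫ CohB1.ProjSpace.toSpec n k = X ↘ Spec (CommRingCat.of k)
  inv : PicF.IsInvertible ω
  dual : ∃ t : Coh.HH X ω 2 →ₗ[k] k, Groth.L22.DualCM.IsDual t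

theorem Ctx.dimClosed (c : Ctx k X ω) (x : X) (hx : IsClosed ({x} : Set ↥X)) :
    ringKrullDim (X.presheaf.stalk x) = (2 : ℕ) := by
  refine Groth.L03.InterLen.ringKrullDim_stalk_closed k (fun Z hZ => ?_) hx
  rw [irreducibleComponents_eq_singleton, Set.mem_singleton_iff] at hZ
  subst hZ
  rw [IsHomeomorph.topologicalKrullDim_eq _ (Homeomorph.Set.univ X).isHomeomorph]
  exact c.dim.trans Nat.cast_ofNat.symm

/-- `h¹(F)` is `dim Ext¹(F, ω)`. -/
theorem Ctx.finrank_ext_one (c : Ctx k X ω) [HasExt.{u} X.Modules] {F : X.Modules} (hF : Coh.IsCoh F) :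
    Module.finrank k (Ext F ω 1) = Module.finrank k (Coh.HH X F 1) := by
  obtain ⟨N, ι, hι, hιk⟩ := c.proj
  haveI := hι
  obtain ⟨t, ht⟩ := c.dual
  obtain ⟨h1, -⟩ := Groth.Agent.S15517.result k N 2 X ι hιk (c.dim.trans Nat.cast_ofNat.symm)
    (fun x hx => ⟨(haveI := c.reg x; Groth.L04.isCohenMacaulayLocalRing_of_regular _), c.dimClosed x hx⟩)
    ω (Groth.L18.Ample.isCoh_of_isInvertible c.inv) t ht F hF
  obtain ⟨e⟩ := h1 1 one_le_two
  rw [e.finrank_eq, Subspace.dual_finrank_eq]

variable [HasInjectiveResolutions X.Modules]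

/-- The dual of a good module: good, with the dual cohomology, with the module as its dual. -/
theorem Ctx.dual_spec (c : Ctx k X ω) {F : X.Modules} (hF : Good F) {D : X.Modules} (e : D ≅ E F ω 1) :
    Good D ∧ Module.finrank k (Coh.HH X D 0) = Module.finrank k (Coh.HH X F 1) ∧ Nonempty (E D ω 1 ≅ F) := by
  haveI := Groth.L21.RR.isNoetherian_of_proper (X := X) k
  haveI := Groth.L00.Tensor.grothendieckAbelian_modules X
  haveI : HasExt.{u} X.Modules := IsGrothendieckAbelian.hasExt _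
  obtain ⟨N, ι, hι, hιk⟩ := id c.proj
  haveI := hι
  have hωc := Groth.L18.Ample.isCoh_of_isInvertible c.inv
  obtain ⟨S, hS, rfl, hf₁, hf₂, h₁, h₂, -, hE, h0, b, w, hb⟩ :=
    exists_resolution_of_depth (k := k) c.reg c.dim ι c.inv hF.coh hF.gen hF.depth
  obtain ⟨-, -, hfr⟩ := finite_and_finrank_ext_one (k := k) hS hf₂ h₁ h₂ hωc hE h0 hb
  have w' : pre' ω S.f ≫ b ≫ e.inv = 0 := by rw [reassoc_of% w, zero_comp]
  have hb' : (ShortComplex.mk (pre' ω S.f) (b ≫ e.inv) w').ShortExact :=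
    ShortComplex.shortExact_of_iso (show ShortComplex.mk (pre' ω S.f) b w ≅
      ShortComplex.mk (pre' ω S.f) (b ≫ e.inv) w' from
      ShortComplex.isoMk (Iso.refl _) (Iso.refl _) e.symm (by simp) (by simp)) hb
  refine ⟨good_dual_of_seq c.reg c.dimClosed hS hf₁ hf₂ c.inv hF.gen _ w' hb', ?_,
    nonempty_bidual_iso hS hf₁ hf₂ c.inv hF.gen _ w' hb'⟩
  rw [Groth.L03.Euler.finrank_HH_of_iso e, ← hfr, c.finrank_ext_one hF.coh]

theorem stalk_subsingleton_of_iso {A B : X.Modules} (e : A ≅ B) (x : X)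
    (h : Subsingleton (A.presheaf.stalk x)) : Subsingleton (B.presheaf.stalk x) :=
  @Equiv.subsingleton _ _ ((Groth.L00.Stk.F X x).mapIso e).symm.toLinearEquiv.toEquiv h

/-- The stalks of the Ext sheaves vanish where the module does. -/
theorem subsingleton_stalk_E [IsLocallyNoetherian X] {F : X.Modules} (hF : Coh.IsCoh F) (G : X.Modules) (i : ℕ)
    {x : X} (hx : Subsingleton (F.presheaf.stalk x)) : Subsingleton ((E F G i).presheaf.stalk x) := by
  haveI := Groth.L17.Duality.hasSheafHom F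
  haveI : HasInjectiveResolutions (ModSite.Mod X.sheaf) := ‹HasInjectiveResolutions X.Modules›
  obtain ⟨e⟩ := Groth.L22.ExtSh.nonempty_extSh_iso F G i
  obtain ⟨q⟩ := Groth.L22.ExtSh.nonempty_ext_stalk_equiv hF G x i
  refine stalk_subsingleton_of_iso e x ?_
  have hz : IsZero (ModuleCat.of (X.presheaf.stalk x) (F.presheaf.stalk x)) := ModuleCat.isZero_of_subsingleton _
  haveI : Subsingleton (Ext (ModuleCat.of (X.presheaf.stalk x) (F.presheaf.stalk x))
      (ModuleCat.of (X.presheaf.stalk x) (G.presheaf.stalk x)) i) := subsingleton_of_forall_eq 0 fun z => by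
    rw [← Ext.mk₀_id_comp z, hz.eq_of_src (𝟙 _) 0, Ext.mk₀_zero, Ext.zero_comp]
  exact q.symm.toEquiv.subsingleton

/-- An inclusion of good modules with finite cokernel dualises to one. -/
theorem Ctx.exists_dual_map (c : Ctx k X ω) {S : ShortComplex X.Modules} (hS : S.ShortExact)
    (h₁ : Coh.IsCoh S.X₁) (h₂ : Coh.IsCoh S.X₂) (h₃ : Coh.IsCoh S.X₃) (hs : SuppClosed S.X₃) :
    ∃ φ : E S.X₂ ω 1 ⟶ E S.X₁ ω 1, Mono φ ∧ SuppClosed (cokernel φ) := by
  haveI := Groth.L21.RR.isNoetherian_of_proper (X := X) k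
  have hωc := Groth.L18.Ample.isCoh_of_isInvertible c.inv
  let I := injectiveResolution ω
  let Φ : ∀ M : X.Modules, CochainComplex X.Modules ℕ := fun M =>
    haveI := additive_homModF M
    ((homModF M).mapHomologicalComplex _).obj I.cocomplex
  haveI := additive_homModF S.X₁
  haveI := additive_homModF S.X₂
  haveI := additive_homModF S.X₃
  let T : ShortComplex (CochainComplex X.Modules ℕ) :=
    ShortComplex.mk (X₁ := Φ S.X₃) (X₂ := Φ S.X₂) (X₃ := Φ S.X₁)
      ((NatTrans.mapHomologicalComplex (preNat S.g) _).app I.cocomplex)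
      ((NatTrans.mapHomologicalComplex (preNat S.f) _).app I.cocomplex) (by
        refine HomologicalComplex.hom_ext _ _ fun j => ?_
        show pre' (I.cocomplex.X j) S.g ≫ pre' (I.cocomplex.X j) S.f = 0
        rw [← Groth.L22.PDual.pre'_comp, S.zero, Groth.L22.PDual.pre'_zero])
  have hT : T.ShortExact := HomologicalComplex.shortExact_of_degreewise_shortExact _ fun j =>
    Groth.L22.ExtSh.shortExact_pre hS h₁ h₂ h₃ (I.cocomplex.X j)
  have hz : IsZero (E S.X₃ ω 1) := by
    haveI := Groth.L17.Duality.hasSheafHom S.X₃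
    haveI : HasInjectiveResolutions (ModSite.Mod X.sheaf) := ‹HasInjectiveResolutions X.Modules›
    obtain ⟨e⟩ := Groth.L22.ExtSh.nonempty_extSh_iso S.X₃ ω 1
    refine IsZero.of_iso ((Groth.L22.ExtSh.isZero_extSh_iff h₃ ω 1).2 fun x => ?_) e.symm
    refine Groth.L22.ExtSh.subsingleton_ext_stalk_of_depth h₃ hωc (n := 2) (fun y hy => ?_) x one_lt_two
    haveI := c.reg y
    obtain ⟨rs, hlen, hrs, hgen⟩ := Groth.L04.exists_regular_generators
      (c.dimClosed y (by_contra fun hc => hy (hs y hc)))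
    obtain ⟨q⟩ := stalk_equiv_of_invertible c.inv y
    rw [LocCoh.depth, ← Groth.L04.idealDepth_congr q, ← hlen]
    exact Groth.L04.length_le_idealDepth hrs.1 fun r hr => hgen ▸ Ideal.subset_span hr
  let e1 : E S.X₃ ω 1 ≅ T.X₁.homology 1 := I.isoRightDerivedObj (homModF S.X₃) 1
  let e2 : E S.X₂ ω 1 ≅ T.X₂.homology 1 := I.isoRightDerivedObj (homModF S.X₂) 1
  let e3 : E S.X₁ ω 1 ≅ T.X₃.homology 1 := I.isoRightDerivedObj (homModF S.X₁) 1
  let e4 : E S.X₃ ω 2 ≅ T.X₁.homology 2 := I.isoRightDerivedObj (homModF S.X₃) 2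
  let φ : E S.X₂ ω 1 ⟶ E S.X₁ ω 1 := e2.hom ≫ HomologicalComplex.homologyMap T.g 1 ≫ e3.inv
  let δ : E S.X₁ ω 1 ⟶ E S.X₃ ω 2 := e3.hom ≫ hT.δ 1 2 rfl ≫ e4.inv
  haveI : Mono (HomologicalComplex.homologyMap T.g 1) :=
    (hT.homology_exact₂ 1).mono_g ((hz.of_iso e1.symm).eq_of_src _ _)
  have w : φ ≫ δ = 0 := by
    simp only [φ, δ, Category.assoc, Iso.inv_hom_id_assoc, reassoc_of% (hT.comp_δ 1 2 rfl), zero_comp, comp_zero]
  have hex : (ShortComplex.mk φ δ w).Exact :=
    ShortComplex.exact_of_iso (ShortComplex.isoMk e2.symm e3.symm e4.symm (by simp [φ]) (by simp [δ]))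
      (hT.homology_exact₃ 1 2 rfl)
  haveI : Mono (cokernel.desc φ δ w) := ((ShortComplex.mk φ δ w).exact_iff_mono_cokernel_desc).1 hex
  refine ⟨φ, inferInstance, fun x hx => ?_⟩
  exact @Function.Injective.subsingleton _ _ _
    ((Groth.L21.Mod.mono_iff_stalk_injective (cokernel.desc φ δ w)).1 inferInstance x)
    (subsingleton_stalk_E h₃ ω 2 (hs x hx))

/-- A residue field: nontrivial, simple, killed by the maximal ideal. -/
structure Simple (R M : Type u) [CommRing R] [IsLocalRing R] [AddCommGroup M] [Module R M] : Prop where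
  kills : ∀ a ∈ maximalIdeal R, ∀ v : M, a • v = 0
  cyclic : ∃ g : M, ∀ z, ∃ r : R, r • g = z

/-- Injective maps from nontrivial modules into simple ones are onto. -/
theorem Simple.surjective {R M N : Type u} [CommRing R] [IsLocalRing R] [AddCommGroup M] [Module R M]
    [AddCommGroup N] [Module R N] (h : Simple R M) [Nontrivial N] (f : N →ₗ[R] M) (hf : Function.Injective f) :
    Function.Surjective f := by
  intro z
  obtain ⟨g, hg⟩ := h.cyclic
  obtain ⟨v, hv⟩ := exists_ne (0 : N)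
  obtain ⟨r, hr⟩ := hg (f v)
  obtain ⟨s, rfl⟩ := hg z
  have hu : IsUnit r := by
    by_contra hn
    refine hv (hf ?_)
    rw [← hr, h.kills r hn g, map_zero]
  obtain ⟨u, rfl⟩ := hu
  refine ⟨(s * ↑u⁻¹) • v, ?_⟩
  rw [map_smul, ← hr, smul_smul, mul_assoc, Units.inv_mul, mul_one]

/-- A nontrivial simple module is the residue field. -/
theorem Simple.nonempty_equiv {R M : Type u} [CommRing R] [IsLocalRing R] [AddCommGroup M] [Module R M]
    (h : Simple R M) [Nontrivial M] : Nonempty (ResidueField R ≃ₗ[R] M) := by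
  obtain ⟨g, hg⟩ := h.cyclic
  have hk : LinearMap.ker (LinearMap.toSpanSingleton R M g) = maximalIdeal R := by
    refine ((maximalIdeal.isMaximal R).eq_of_le (fun htop => ?_) fun a ha => h.kills a ha g).symm
    have h1 : (1 : R) • g = 0 := LinearMap.mem_ker.1 (htop ▸ Submodule.mem_top : (1 : R) ∈ _)
    obtain ⟨v, hv⟩ := exists_ne (0 : M)
    obtain ⟨r, rfl⟩ := hg v
    exact hv (by rw [← one_smul R g, h1, smul_zero])
  exact ⟨(Submodule.quotEquivOfEq _ _ hk.symm).trans
    ((LinearMap.toSpanSingleton R M g).quotKerEquivOfSurjective fun z => hg z)⟩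

/-- At a point of codimension one, the dual of a simple module is simple. -/
theorem simple_stalk_E [IsLocallyNoetherian X] {F L : X.Modules} (hF : Coh.IsCoh F) (hL : PicF.IsInvertible L)
    {x : X} [IsRegularLocalRing (X.presheaf.stalk x)] (hd : ringKrullDim (X.presheaf.stalk x) = (1 : ℕ))
    (hS : Simple (X.presheaf.stalk x) (F.presheaf.stalk x)) [Nontrivial (F.presheaf.stalk x)] :
    Simple (X.presheaf.stalk x) ((E F L 1).presheaf.stalk x) := by
  haveI := Groth.L17.Duality.hasSheafHom F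
  haveI : HasInjectiveResolutions (ModSite.Mod X.sheaf) := ‹HasInjectiveResolutions X.Modules›
  obtain ⟨e⟩ := Groth.L22.ExtSh.nonempty_extSh_iso F L 1
  obtain ⟨q⟩ := Groth.L22.ExtSh.nonempty_ext_stalk_equiv hF L x 1
  obtain ⟨a⟩ := hS.nonempty_equiv
  obtain ⟨b⟩ := stalk_equiv_of_invertible hL x
  let R := X.presheaf.stalk x
  obtain ⟨q1⟩ := Groth.L22.ExtSh.nonempty_ext_congr_left
    (M := ModuleCat.of R (L.presheaf.stalk x)) a.toModuleIso 1
  obtain ⟨q2⟩ := Groth.L22.ExtSh.nonempty_ext_congr_right (N := ModuleCat.of R (ResidueField R)) b.toModuleIso 1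
  let Q : Ext (ModuleCat.of R (ResidueField R)) (ModuleCat.of R R) 1 ≃ₗ[R] (E F L 1).presheaf.stalk x :=
    q2.trans (q1.trans (q.trans ((Groth.L00.Stk.F X x).mapIso e).toLinearEquiv))
  obtain ⟨g, -, hg⟩ := Groth.L22.ExtSh.exists_generator_ext_residueField (R := R) hd
  refine ⟨fun r hr v => ?_, ⟨Q g, fun z => ?_⟩⟩
  · obtain ⟨z, rfl⟩ := Q.surjective v
    rw [← map_smul, Groth.L22.ExtSh.smul_eq_mk₀_comp,
      show r • 𝟙 (ModuleCat.of R (ResidueField R)) = 0 from ModuleCat.hom_ext (LinearMap.ext fun w => ?_),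
      Ext.mk₀_zero, Ext.zero_comp, map_zero]
    obtain ⟨w, rfl⟩ := IsLocalRing.residue_surjective w
    exact (Ideal.Quotient.eq_zero_iff_mem.2 (Ideal.mul_mem_right w _ hr))
  · obtain ⟨r, hr⟩ := hg (Q.symm z)
    exact ⟨r, by rw [← map_smul, hr, LinearEquiv.apply_symm_apply]⟩

/-- An extension of a module with finite support by a globally generated one, with all sections of the quotient
lifting, is globally generated. -/
theorem gg_of_suppClosed (k : Type u) [Field k] [X.Over (Spec (CommRingCat.of k))]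
    [IsProper (X ↘ Spec (CommRingCat.of k))] {A B : X.Modules} (hA : Coh.IsCoh A) (hB : Coh.IsCoh B)
    (φ : A ⟶ B) [Mono φ] (hs : SuppClosed (cokernel φ)) (hgg : Curv2.IsGloballyGenerated A)
    (hh : Module.finrank k (Coh.HH X A 1) = Module.finrank k (Coh.HH X B 1)) :
    Curv2.IsGloballyGenerated B := by
  haveI := Groth.L21.RR.isNoetherian_of_proper (X := X) k
  haveI := Groth.L16.ProperFinite.finite_HH k hA 1
  haveI := Groth.L16.ProperFinite.finite_HH k hB 1
  let S := ShortComplex.mk φ (cokernel.π φ) (cokernel.condition φ)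
  have hS : S.ShortExact := { exact := ShortComplex.exact_cokernel φ }
  have hsurj : Function.Surjective (overLin k (hmap φ 1)) := fun y =>
    (exact_hmap_hmap (S := S) hS 1 y).1 (@Subsingleton.elim _ (Groth.L21.RR.subsingleton_HH_of_suppClosed hs 0) _ _)
  have hinj : Function.Injective (overLin k (hmap φ 1)) :=
    (LinearMap.injective_iff_surjective_of_finrank_eq_finrank hh).2 hsurj
  have hlift : ∀ y : Coh.HH X (cokernel φ) 0, ∃ x, hmap (cokernel.π φ) 0 x = y := fun y =>
    (exact_hmap_delta (S := S) hS 0 y).1 (hinj (by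
      rw [map_zero]
      exact (exact_delta_hmap (S := S) hS 0 _).2 ⟨y, rfl⟩))
  refine Groth.L18.Ample.isGloballyGenerated_of_kills B fun G g hg => ?_
  have h1 : φ ≫ g = 0 := Groth.L18.Ample.eq_zero_of_killsGlobal hgg _ fun t => hg (φ.app ⊤ t)
  obtain ⟨g', hg'⟩ : ∃ g', cokernel.π φ ≫ g' = g := ⟨_, cokernel.π_desc φ g h1⟩
  have h2 : ∀ t, g'.app ⊤ t = 0 := fun t => by
    obtain ⟨x, hx⟩ := hlift ((Groth.L21.RR.e0 _).symm t)
    have h3 := congrArg (Groth.L21.RR.e0 _) hx
    rw [Groth.L21.RR.e0_hmap, AddEquiv.apply_symm_apply] at h3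
    rw [← h3]
    refine Eq.trans ?_ (hg (Groth.L21.RR.e0 B x))
    rw [← hg']
    rfl
  suffices h : g' = 0 by rw [← hg', h, comp_zero]
  refine Scheme.Modules.hom_ext _ _ fun U => ?_
  ext s
  refine TopCat.Presheaf.section_ext (⟨G.presheaf, G.isSheaf⟩ : TopCat.Sheaf Ab X.toTopCat) U _ _ fun x hx => ?_
  obtain ⟨t, ht, -⟩ := Groth.L21.RR.exists_section_germ hs x ((cokernel φ).presheaf.germ U x hx s)
  show G.presheaf.germ U x hx (g'.app U s) = G.presheaf.germ U x hx 0
  rw [map_zero]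
  refine Eq.trans ?_ ((congrArg (G.presheaf.germ ⊤ x trivial) (h2 t)).trans (map_zero _))
  rw [← RefHull.stalkMapₗ_germ g' x hx, ← RefHull.stalkMapₗ_germ g' x (show x ∈ (⊤ : X.Opens) from trivial), ht]

end Groth.L03.SurfExt
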