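import Groth.Agent.L03.SurfExt.LocFreeDual
import Groth.Agent.L03.SurfNum.CurveDegree
import Groth.Agent.L03.ShStab.LMBundle
import Groth.Agent.L22.CurveDeg.TensorDeg
import Groth.Agent.L03.ConnH0
import Groth.Agent.L21.P1.PushCoh
import Groth.Agent.L03.ShStab.TrivialGG
import Groth.Agent.L03.ShStab.RankOneSlope
import Groth.Agent.L26.Pic0.EulerPull
import Groth.Agent.L21.Disc.Push
import Groth.Agent.L18.KRRAmple
import Groth.Agent.L18.Grass.MapEpi

/-!
The Euler characteristic of the endomorphisms of a Lazarsfeld–Mukai bundle.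
-/

set_option autoImplicit false
set_option backward.isDefEq.respectTransparency false
set_option linter.style.haveILetI false
set_option linter.unusedSectionVars false
universe u

open CategoryTheory CategoryTheory.Limits CategoryTheory.Abelian AlgebraicGeometry

noncomputable section

namespace Groth.L03.SurfExt

open Groth.L16.HomSh (homMod homModF)
open Groth.L22.Inter (subsingleton_HH_of_dim)
open Groth.L03.Euler (euler_iso euler_add euler_eq_sum)
open Groth.L00.Tensor (tensorIso tensorComm tensorUnitLeft tensorUnitRight tensorRightF)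

/-- An additive invariant of free modules. -/
theorem additive_free {X : Scheme.{u}} (P : X.Modules → ℤ) (h0 : ∀ {M : X.Modules}, IsZero M → P M = 0)
    (hadd : ∀ {S : ShortComplex X.Modules}, S.Splitting → Coh.IsCoh S.X₁ → Coh.IsCoh S.X₂ → Coh.IsCoh S.X₃ →
      P S.X₂ = P S.X₁ + P S.X₃) [IsLocallyNoetherian X] :
    ∀ e : ℕ, P (FlatMod.freeMod X e) = e * P (Coh.structureModule X) := by
  have hOc : Coh.IsCoh (Coh.structureModule X) :=
    Groth.L18.Ample.isCoh_of_isInvertible (Groth.L18.Ample.isInvertible_structureModule X)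
  intro e
  induction e with
  | zero =>
    rw [h0 ((IsZero.iff_id_eq_zero _).2 (Sigma.hom_ext _ _ fun i => i.elim0)), Nat.cast_zero, zero_mul]
  | succ e ih =>
    let O := Coh.structureModule X
    let inj : FlatMod.freeMod X e ⟶ FlatMod.freeMod X (e + 1) :=
      Sigma.desc fun i => Sigma.ι (fun _ : Fin (e + 1) => O) i.castSucc
    let ret : FlatMod.freeMod X (e + 1) ⟶ FlatMod.freeMod X e :=
      Sigma.desc (Fin.lastCases 0 fun i => Sigma.ι (fun _ : Fin e => O) i)
    let π : FlatMod.freeMod X (e + 1) ⟶ O := Sigma.desc (Fin.lastCases (𝟙 O) fun _ => 0)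
    have w : inj ≫ π = 0 := Sigma.hom_ext _ _ fun i => by simp [inj, π, O]
    let sp : (ShortComplex.mk inj π w).Splitting :=
      { r := ret
        s := Sigma.ι (fun _ : Fin (e + 1) => O) (Fin.last e)
        f_r := Sigma.hom_ext _ _ fun i => by simp [inj, ret, O]
        s_g := by simp [π, O]
        id := Sigma.hom_ext _ _ fun i => by
          induction i using Fin.lastCases with
          | last => simp [ret, π, O]
          | cast i => simp [ret, π, inj, O] }
    have h := hadd sp (Groth.L16.Existence.isCoh_sigma _ fun _ => hOc)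
      (Groth.L16.Existence.isCoh_sigma _ fun _ => hOc) hOc
    change P (FlatMod.freeMod X (e + 1)) = P (FlatMod.freeMod X e) + P O at h
    rw [h, ih, Nat.cast_succ]
    ring

variable {k : Type u} [Field k] {X : Scheme.{u}} [X.Over (Spec (CommRingCat.of k))]
  [IsProper (X ↘ Spec (CommRingCat.of k))] [IsIntegral X]

/-- Serre duality for Euler characteristics. -/
theorem Ctx.euler_dual {ω : X.Modules} (c : Ctx k X ω) {G : X.Modules} (hG : FlatMod.IsFinLocFree G) :
    Curv2.euler k X (homMod G ω) = Curv2.euler k X G := by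
  have hN : ∀ M : X.Modules, ∀ n, 3 ≤ n → Subsingleton (Coh.HH X M n) := fun M n hn =>
    haveI := Groth.L21.RR.isNoetherian_of_proper (X := X) k
    subsingleton_HH_of_dim (d := 2) (c.dim.trans Nat.cast_ofNat.symm).le M (by omega)
  rw [euler_eq_sum (hN _), euler_eq_sum (hN _)]
  simp only [Finset.sum_range_succ, Finset.sum_range_zero]
  rw [c.finrank_HH_dual hG (i := 0) (by omega), c.finrank_HH_dual hG (i := 1) (by omega),
    c.finrank_HH_dual hG (i := 2) le_rfl]
  ring

/-- Serre duality for twisted duals. -/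
theorem Ctx.euler_dual_tensor (c : Ctx k X (Coh.structureModule X)) {F L L' : X.Modules}
    (hF : FlatMod.IsFinLocFree F) (hL' : PicF.IsInvertible L')
    (e : CohB1.tensorMod L' L ≅ Coh.structureModule X) :
    Curv2.euler k X (CohB1.tensorMod (homMod F (Coh.structureModule X)) L) =
      Curv2.euler k X (CohB1.tensorMod F L') := by
  rw [← c.euler_dual (Groth.L29.DC.isFinLocFree_tensor hF (Groth.L20.ResDescent.isFinLocFree_of_isInvertible hL'))]
  haveI := Groth.L17.Duality.hasSheafHom F
  haveI := Groth.L17.Duality.hasSheafHom L'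
  haveI := Groth.L17.Duality.hasSheafHom (CohB1.tensorMod F L')
  obtain ⟨q⟩ := Groth.L22.PDual.nonempty_homMod_invertible e
  exact euler_iso (tensorIso ((Groth.L22.ExtSh.homModSiteIso F).app _).symm (Iso.refl L) ≪≫ (q.app _).symm ≪≫
    (Groth.L17.Duality.homTensorIso L' F).app _ ≪≫
    (Groth.L22.ExtSh.homModSiteIso (CohB1.tensorMod F L')).app _)

/-- The sections of a free module. -/
theorem finrank_h0_free (e : ℕ) : Module.finrank k (Coh.HH X (FlatMod.freeMod X e) 0) =
    e * Module.finrank k (Coh.HH X (Coh.structureModule X) 0) := by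
  haveI := Groth.L21.RR.isNoetherian_of_proper (X := X) k
  have h := additive_free (X := X) (fun M => (Module.finrank k (Coh.HH X M 0) : ℤ))
    (fun hM => by
      haveI := Groth.L03.Euler.subsingleton_HH_of_isZero hM 0
      rw [Module.finrank_zero_of_subsingleton, Nat.cast_zero])
    (fun {T} sp h1 h2 h3 => by
      haveI := Groth.L16.ProperFinite.finite_HH k h2 0
      let g := Groth.L16.CohLinear.overLin k (Groth.L16.CohLinear.hmap T.g 0)
      let f := Groth.L16.CohLinear.overLin k (Groth.L16.CohLinear.hmap T.f 0)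
      have hg : Function.Surjective g := fun y => ⟨Groth.L16.CohLinear.hmap sp.s 0 y, by
        show Groth.L16.CohLinear.hmap T.g 0 (Groth.L16.CohLinear.hmap sp.s 0 y) = y
        rw [← Groth.L16.CohLinear.hmap_comp, sp.s_g, Groth.L16.CohLinear.hmap_id]⟩
      have hf : Function.Injective f := fun x y h =>
        (Groth.L03.Euler.injective_hmap_zero (S := T) sp.shortExact) h
      have hk : LinearMap.ker g = LinearMap.range f := by
        ext x
        exact Groth.L16.CohLinear.exact_hmap_hmap (S := T) sp.shortExact 0 x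
      have h := LinearMap.finrank_range_add_finrank_ker g
      rw [LinearMap.range_eq_top.2 hg, _root_.finrank_top, hk, LinearMap.finrank_range_of_inj hf] at h
      rw [← h]
      push_cast
      ring) e
  exact_mod_cast h

/-- Tensoring with a free module. -/
theorem tensor_free {Y : Scheme.{u}} [Y.Over (Spec (CommRingCat.of k))] [IsProper (Y ↘ Spec (CommRingCat.of k))]
    {n : ℕ} {M : Y.Modules} (hM : FlatMod.IsFinLocFreeOfRank n M) (e : ℕ) :
    Curv2.euler k Y (CohB1.tensorMod M (FlatMod.freeMod Y e)) =
      e * Curv2.euler k Y (CohB1.tensorMod M (Coh.structureModule Y)) := by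
  haveI := Groth.L21.RR.isNoetherian_of_proper (X := Y) k
  refine additive_free (fun N => Curv2.euler k Y (CohB1.tensorMod M N)) (fun {N} hN => ?_)
    (fun {T} sp h1 h2 h3 => ?_) e
  · haveI : PreservesColimits (tensorRightF M) := Groth.L00.Tensor.preservesColimits_tensorRightF _
    haveI : PreservesFiniteCoproducts (tensorRightF M) := inferInstance
    haveI := preservesBinaryBiproducts_of_preservesBinaryCoproducts (tensorRightF M)
    haveI : (tensorRightF M).Additive := Functor.additive_of_preservesBinaryBiproducts _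
    exact Groth.L03.Euler.euler_of_isZero (((tensorRightF M).map_isZero hN).of_iso (tensorComm M N))
  · have hT := Groth.L16.FrameIso.shortExact_tensor_left
      (Groth.L29.DC.isFlat_of_isFinLocFree (Groth.L22.CurveDeg.isFinLocFree_of_rank hM)) _ sp.shortExact
    have h := euler_add (k := k) hT
      (Groth.L22.CurveDeg.isCoh_tensor_locFree hM h1) (Groth.L22.CurveDeg.isCoh_tensor_locFree hM h2)
      (Groth.L22.CurveDeg.isCoh_tensor_locFree hM h3)
    exact h

/-- The rank at the generic point. -/
theorem finrank_stalk_of_rank {n : ℕ} {E : X.Modules} (hE : FlatMod.IsFinLocFreeOfRank n E) (x : X) :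
    Module.finrank (X.presheaf.stalk x) (E.presheaf.stalk x) = n := by
  obtain ⟨e⟩ := Groth.L22.CurveDeg.nonempty_stalk_equiv hE x
  rw [← e.finrank_eq, Module.finrank_fin_fun]

theorem isFinLocFreeOfRank_free (e : ℕ) : FlatMod.IsFinLocFreeOfRank e (FlatMod.freeMod X e) := by
  obtain ⟨n, hn⟩ := Groth.L21.Disc.exists_rank (Groth.L29.DC.isFinLocFree_coprod_fin e
    (fun _ : Fin e => Coh.structureModule X) fun _ =>
      Groth.L20.ResDescent.isFinLocFree_of_isInvertible (Groth.L18.Ample.isInvertible_structureModule X))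
  have hx := finrank_stalk_of_rank hn (genericPoint ↥X)
  let q := LinearEquiv.ofBijective (Fintype.linearCombination (X.presheaf.stalk (genericPoint ↥X))
    fun j => ((FlatMod.freeMod X e).presheaf.germ ⊤ (genericPoint ↥X) trivial
      (Groth.L03.ShStab.TrivialGG.unitVec e j) : (FlatMod.freeMod X e).presheaf.stalk (genericPoint ↥X)))
    (Groth.L03.ShStab.TrivialGG.bijective_unitVec e (genericPoint ↥X))
  rw [← q.finrank_eq, Module.finrank_fin_fun] at hx
  exact hx ▸ hn

/-- A kernel of a map to a module killed at the generic point, and its dual, have the rank of the middle term. -/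
theorem isFinLocFreeOfRank_kernel_dual {e : ℕ} {A : X.Modules} (p : FlatMod.freeMod X e ⟶ A) [Epi p]
    [IsLocallyNoetherian X] (hA : Subsingleton (A.presheaf.stalk (genericPoint ↥X)))
    (hF : FlatMod.IsFinLocFree (kernel p)) :
    FlatMod.IsFinLocFreeOfRank e (kernel p) ∧
      FlatMod.IsFinLocFreeOfRank e (homMod (kernel p) (Coh.structureModule X)) := by
  let η := genericPoint ↥X
  have hO := Groth.L18.Ample.isInvertible_structureModule X
  obtain ⟨n, hn⟩ := Groth.L21.Disc.exists_rank hF
  obtain ⟨m, hm⟩ := Groth.L21.Disc.exists_rank (isFinLocFree_homMod hF hO)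
  have hS : (ShortComplex.mk (kernel.ι p) p (kernel.condition p)).ShortExact := { exact := ShortComplex.exact_kernel p }
  have hSη := (Groth.L21.Mod.shortExact_iff_stalk _).1 hS η
  let q := LinearEquiv.ofBijective (RefHull.stalkMapₗ (kernel.ι p) η)
    ⟨(AddCommGrpCat.mono_iff_injective _).1 hSη.mono_f, fun v =>
      (ShortComplex.ab_exact_iff _).1 hSη.exact v (Subsingleton.elim (α := A.presheaf.stalk η) _ _)⟩
  have hne : n = e := by
    rw [← finrank_stalk_of_rank hn η, q.finrank_eq, finrank_stalk_of_rank (isFinLocFreeOfRank_free e) η]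
  subst hne
  refine ⟨hn, ?_⟩
  have hme : m = n := by
    haveI : Coh.IsQCoh (Coh.structureModule X) := (Groth.L18.Ample.isCoh_of_isInvertible hO).1
    obtain ⟨o⟩ := stalk_equiv_of_invertible hO η
    haveI := Groth.L18.LFP.free_stalk _ hF η
    haveI := Groth.L06.SupportStalk.finite_stalk _ (Groth.L16.NegPow.isCoh_of_isFinLocFree hF) η
    haveI : Module.Free (X.presheaf.stalk η) ((Coh.structureModule X).presheaf.stalk η) := Module.Free.of_equiv o
    haveI : Module.Finite (X.presheaf.stalk η) ((Coh.structureModule X).presheaf.stalk η) := Module.Finite.equiv o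
    let h : (homMod (kernel p) (Coh.structureModule X)).presheaf.stalk η ≃ₗ[X.presheaf.stalk η]
        ((kernel p).presheaf.stalk η →ₗ[X.presheaf.stalk η] (Coh.structureModule X).presheaf.stalk η) :=
      LinearEquiv.ofBijective (Groth.L22.PDual.stalkHom (kernel p) (Coh.structureModule X) η)
      (Groth.L22.PDual.bijective_stalkHom _ _ (Groth.L16.NegPow.isCoh_of_isFinLocFree hF) η)
    rw [← finrank_stalk_of_rank hm η, h.finrank_eq, Module.finrank_linearMap, ← o.finrank_eq, Module.finrank_self,
      mul_one, finrank_stalk_of_rank hn η]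
  exact hme ▸ hm

variable [IsAlgClosed k] {C : Scheme.{u}} [C.Over (Spec (CommRingCat.of k))] [IsIntegral C]

/-- `χ` of the endomorphisms of a Lazarsfeld–Mukai bundle on a K3 surface. -/
theorem euler_end (c : Ctx k X (Coh.structureModule X))
    (hq : Module.finrank k (Coh.HH X (Coh.structureModule X) 1) = 0) (hC : topologicalKrullDim C = 1)
    (i : C ⟶ X) [IsClosedImmersion i] (hi : i ≫ (X ↘ Spec (CommRingCat.of k)) = C ↘ Spec (CommRingCat.of k))
    (A : C.Modules) (hA : PicF.IsInvertible A) (e : ℕ) (lam : FlatMod.freeMod X e ⟶ (Coh.push i).obj A) [Epi lam]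
    (hlam : Function.Bijective (Sheaf.H.map ((SheafOfModules.toSheaf _).map lam) 0)) :
    Curv2.euler k X (RefHull.homSh (kernel lam) (kernel lam)) =
      2 - 2 * ((Curv2.genus k C : ℤ) -
        (Module.finrank k (Coh.HH C A 0) : ℤ) * (Module.finrank k (Coh.HH C A 1) : ℤ)) := by
  haveI := Groth.L21.RR.isNoetherian_of_proper (X := X) k
  haveI : IsProper (C ↘ Spec (CommRingCat.of k)) := hi ▸ inferInstance
  haveI := Groth.L21.RR.isNoetherian_of_proper (X := C) k
  haveI : X.IsSeparated := ⟨by rw [← terminal.comp_from (X ↘ Spec (CommRingCat.of k))]; infer_instance⟩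
  let O := Coh.structureModule X
  let OC := Coh.structureModule C
  have hO := Groth.L18.Ample.isInvertible_structureModule X
  have hOc := Groth.L18.Ample.isCoh_of_isInvertible hO
  have hOCc : Coh.IsCoh OC := Groth.L18.Ample.isCoh_of_isInvertible (Groth.L18.Ample.isInvertible_structureModule C)
  have hAc := Groth.L18.Ample.isCoh_of_isInvertible hA
  have hgood := good_push i c.dim hC hAc
    (fun x => Groth.L03.ShStab.RankOneSlope.torsionFree_of_invertible hA x)
  let P := (Coh.push i).obj A
  have hfree : FlatMod.IsFinLocFree (FlatMod.freeMod X e) :=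
    Groth.L29.DC.isFinLocFree_coprod_fin e _ fun _ => Groth.L20.ResDescent.isFinLocFree_of_isInvertible hO
  have hF : FlatMod.IsFinLocFree (kernel lam) := isFinLocFree_kernel c.reg c.dim.le hfree hgood.coh hgood.depth lam
  obtain ⟨hFr, hF'r⟩ := isFinLocFreeOfRank_kernel_dual lam hgood.gen hF
  let F := kernel lam
  let F' := homMod F O
  have hF' : FlatMod.IsFinLocFree F' := isFinLocFree_homMod hF hO
  let S := ShortComplex.mk (kernel.ι lam) lam (kernel.condition lam)
  have hS : S.ShortExact := { exact := ShortComplex.exact_kernel lam }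
  have cF := Groth.L16.NegPow.isCoh_of_isFinLocFree hF
  have cFree := Groth.L16.NegPow.isCoh_of_isFinLocFree hfree
  -- the structure module
  have hN2 : ∀ M : C.Modules, ∀ n, 2 ≤ n → Subsingleton (Coh.HH C M n) := fun M n hn =>
    subsingleton_HH_of_dim (d := 1) (hC.trans Nat.cast_one.symm).le M (by omega)
  have hχC : ∀ M : C.Modules, Curv2.euler k C M =
      (Module.finrank k (Coh.HH C M 0) : ℤ) - Module.finrank k (Coh.HH C M 1) := fun M => by
    rw [euler_eq_sum (hN2 M)]
    simp only [Finset.sum_range_succ, Finset.sum_range_zero]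
    ring
  have h00 : Module.finrank k (Coh.HH X O 0) = 1 := Groth.L03.ConnH0.h0_structure_eq_one k
  have hC0 : Module.finrank k (Coh.HH C OC 0) = 1 := Groth.L03.ConnH0.h0_structure_eq_one k
  have hχO : Curv2.euler k X O = 2 := by
    have hN : ∀ n, 3 ≤ n → Subsingleton (Coh.HH X O n) := fun n hn =>
      subsingleton_HH_of_dim (d := 2) (c.dim.trans Nat.cast_ofNat.symm).le O (by omega)
    haveI := Groth.L17.Duality.hasSheafHom O
    obtain ⟨q⟩ := Groth.L22.PDual.nonempty_homMod_invertible (tensorUnitLeft O)
    have e2 : Module.finrank k (Coh.HH X O 2) = Module.finrank k (Coh.HH X O 0) := by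
      rw [← c.finrank_HH_dual (Groth.L20.ResDescent.isFinLocFree_of_isInvertible hO) (i := 2) le_rfl]
      exact (Groth.L03.Euler.finrank_HH_of_iso (((Groth.L22.ExtSh.homModSiteIso O).app O).symm ≪≫ q.app O ≪≫
        tensorUnitLeft O) 2).symm
    rw [euler_eq_sum hN]
    simp only [Finset.sum_range_succ, Finset.sum_range_zero]
    rw [e2, hq, h00]
    norm_num
  -- the rank is the number of sections
  have he : (e : ℤ) = Module.finrank k (Coh.HH C A 0) := by
    have h := finrank_h0_free (k := k) (X := X) e
    rw [h00, mul_one] at h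
    rw [← h, (LinearEquiv.ofBijective (Groth.L16.CohLinear.overLin k (Groth.L16.CohLinear.hmap lam 0)) hlam).finrank_eq]
    haveI : Coh.IsQCoh A := hAc.1
    haveI := Groth.L21.RR.isNoetherian_of_proper (X := X) k
    exact congrArg Nat.cast (Groth.L21.P1.h_push_affine k i hi A 0)
  -- restriction to the curve
  have hres : ∀ {M : X.Modules}, FlatMod.IsFinLocFree M → ∀ N : C.Modules, Coh.IsQCoh N →
      Curv2.euler k X (CohB1.tensorMod M ((Coh.push i).obj N)) =
        Curv2.euler k C (CohB1.tensorMod ((Scheme.Modules.pullback i).obj M) N) := fun hM N hN =>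
    Groth.L22.CurveDeg.euler_tensor_push k i hi hM N hN
  have hP : Curv2.euler k X P = Curv2.euler k C A := Groth.L03.Euler.euler_push i A hAc.1 hi
  have hχF : Curv2.euler k X F = 2 * e - Curv2.euler k C A := by
    have h := euler_add (k := k) hS cF cFree hgood.coh
    have h' : Curv2.euler k X (FlatMod.freeMod X e) = e * 2 := by
      rw [Groth.Agent.Pic0.EulerPull.euler_freeMod, hχO]
    change Curv2.euler k X (FlatMod.freeMod X e) = Curv2.euler k X F + Curv2.euler k X P at h
    rw [h', hP] at h
    omega
  have hχF' : Curv2.euler k X F' = Curv2.euler k X F := c.euler_dual hF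
  -- the ideal of the curve
  obtain ⟨hI, -⟩ := Groth.L03.SurfNum.CurveDegree.invertible_ker k i (c.dim.trans Nat.cast_ofNat.symm) c.reg
    (hC.trans Nat.cast_one.symm)
  let I := ClSub.idealMod i.ker
  obtain ⟨J, hJ, ⟨eJ⟩⟩ := Groth.L08.Cube.exists_inverse hI
  have hseq := Groth.L21.RR.shortExact_idealSeq i.ker
  obtain ⟨eQ⟩ := Groth.L03.ShStab.LMBundle.nonempty_push_structure_iso i
  have hQ : ∀ {M : X.Modules}, FlatMod.IsFinLocFree M →
      Curv2.euler k C ((Scheme.Modules.pullback i).obj M) =
        Curv2.euler k X M - Curv2.euler k X (CohB1.tensorMod M I) := by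
    intro M hM
    rw [← euler_iso (tensorUnitRight ((Scheme.Modules.pullback i).obj M)), ← hres hM OC hOCc.1,
      euler_iso (tensorIso (Iso.refl M) eQ)]
    have hMc := Groth.L16.NegPow.isCoh_of_isFinLocFree hM
    obtain ⟨n, hn⟩ := Groth.L21.Disc.exists_rank hM
    have hT := Groth.L16.FrameIso.shortExact_tensor_left (Groth.L29.DC.isFlat_of_isFinLocFree hM) _ hseq
    have hq' : Coh.IsCoh (ClSub.quotMod i.ker) :=
      Groth.L16.CohSupport.isCoh_of_iso eQ (Groth.L16.CohClosedPush.isCoh_push i hOCc)
    have h := euler_add (k := k) hT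
      (Groth.L22.CurveDeg.isCoh_tensor_locFree hn (Groth.L18.Ample.isCoh_of_isInvertible hI))
      (Groth.L22.CurveDeg.isCoh_tensor_locFree hn hOc)
      (Groth.L22.CurveDeg.isCoh_tensor_locFree hn hq')
    change Curv2.euler k X (CohB1.tensorMod M O) = Curv2.euler k X (CohB1.tensorMod M I) +
      Curv2.euler k X (CohB1.tensorMod M (ClSub.quotMod i.ker)) at h
    rw [euler_iso (tensorUnitRight M)] at h
    omega
  -- the inverse of the ideal
  have hIf := Groth.L20.ResDescent.isFinLocFree_of_isInvertible hI
  have hJf := Groth.L20.ResDescent.isFinLocFree_of_isInvertible hJ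
  have hJI : CohB1.tensorMod J I ≅ O := tensorComm _ _ ≪≫ eJ
  have hχJ : Curv2.euler k X J = Curv2.euler k X I := by
    haveI := Groth.L17.Duality.hasSheafHom I
    obtain ⟨q⟩ := Groth.L22.PDual.nonempty_homMod_invertible eJ
    rw [← c.euler_dual hIf]
    exact euler_iso ((tensorUnitLeft J).symm ≪≫ (q.app O).symm ≪≫ (Groth.L22.ExtSh.homModSiteIso I).app O)
  have hχOC : Curv2.euler k C OC = 2 - Curv2.euler k X I := by
    rw [← euler_iso (Groth.L29.LocFree.pullbackUnitIso i), hQ (Groth.L20.ResDescent.isFinLocFree_of_isInvertible hO),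
      hχO, euler_iso (tensorUnitLeft I)]
  have hg : (Curv2.genus k C : ℤ) = 1 - Curv2.euler k C OC := by
    rw [hχC OC, hC0]
    show (Module.finrank k (Coh.HH C OC 1) : ℤ) = _
    ring
  have hJC : Curv2.euler k C ((Scheme.Modules.pullback i).obj J) = Curv2.euler k X J - 2 := by
    rw [hQ hJf, euler_iso hJI, hχO]
  -- degrees on the curve
  have hJA : Curv2.euler k C (CohB1.tensorMod ((Scheme.Modules.pullback i).obj J) A) =
      Curv2.euler k C A + Curv2.euler k C ((Scheme.Modules.pullback i).obj J) - Curv2.euler k C OC := by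
    have h := Groth.L22.CurveDeg.deg_tensor_locFree k hC.le (n := 1) (m := 1)
      (Groth.L18.KRRAmple.isRankOne_of_isInvertible (Groth.L18.Ample.isInvertible_pullback i hJ))
      (Groth.L18.KRRAmple.isRankOne_of_isInvertible hA)
    simp only [Curv2.deg, Nat.cast_one, one_mul, mul_one] at h
    linarith
  let G := (Scheme.Modules.pullback i).obj F'
  have hGA : Curv2.euler k C (CohB1.tensorMod G A) =
      e * Curv2.euler k C A + Curv2.euler k C G - e * Curv2.euler k C OC := by
    have h := Groth.L22.CurveDeg.deg_tensor_locFree k hC.le (n := e) (m := 1)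
      (E := G) (Groth.L18.MapEpi.isFinLocFreeOfRank_pullback i hF'r)
      (Groth.L18.KRRAmple.isRankOne_of_isInvertible hA)
    simp only [Curv2.deg, Nat.cast_one, one_mul, mul_one] at h
    linarith
  have hFJ : Curv2.euler k X (CohB1.tensorMod F J) =
      e * Curv2.euler k X J - Curv2.euler k C (CohB1.tensorMod ((Scheme.Modules.pullback i).obj J) A) := by
    obtain ⟨n, hn⟩ := Groth.L21.Disc.exists_rank hJf
    have hT := Groth.L16.FrameIso.shortExact_tensor_left (Groth.L29.DC.isFlat_of_isFinLocFree hJf) _ hS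
    have h := euler_add (k := k) hT (Groth.L22.CurveDeg.isCoh_tensor_locFree hn cF)
      (Groth.L22.CurveDeg.isCoh_tensor_locFree hn cFree) (Groth.L22.CurveDeg.isCoh_tensor_locFree hn hgood.coh)
    change Curv2.euler k X (CohB1.tensorMod J (FlatMod.freeMod X e)) =
      Curv2.euler k X (CohB1.tensorMod J F) + Curv2.euler k X (CohB1.tensorMod J P) at h
    have hfr : Curv2.euler k X (CohB1.tensorMod J (FlatMod.freeMod X e)) =
        e * Curv2.euler k X (CohB1.tensorMod J O) := tensor_free hn e
    rw [hfr, euler_iso (tensorUnitRight J), hres hJf A hAc.1, euler_iso (tensorComm J F)] at h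
    omega
  have hG : Curv2.euler k C G = e * Curv2.euler k C OC + 2 * ((Curv2.genus k C : ℤ) - 1) := by
    rw [hQ hF', c.euler_dual_tensor hF hJ hJI, hχF', hFJ, hJA, hJC, hg, hχF, hχOC, hχJ]
    ring
  -- the endomorphisms
  have hend : Curv2.euler k X (RefHull.homSh F F) =
      e * Curv2.euler k X F - Curv2.euler k C (CohB1.tensorMod G A) := by
    haveI := Groth.L17.Duality.hasSheafHom F
    let eE : RefHull.homSh F F ≅ CohB1.tensorMod F' F :=
      @asIso _ _ _ _ (Groth.L15.Ref.toHomMod F F) (Groth.L15.Ref.isIso_toHomMod _ _) ≪≫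
        ((Groth.L22.ExtSh.homModSiteIso F).app F).symm ≪≫ ((Groth.L17.Duality.tensorDualIso F hF).app F).symm ≪≫
        tensorIso (Iso.refl F) ((Groth.L22.ExtSh.homModSiteIso F).app O) ≪≫ tensorComm F F'
    have hT := Groth.L16.FrameIso.shortExact_tensor_left (Groth.L29.DC.isFlat_of_isFinLocFree hF') _ hS
    have h := euler_add (k := k) hT (Groth.L22.CurveDeg.isCoh_tensor_locFree hF'r cF)
      (Groth.L22.CurveDeg.isCoh_tensor_locFree hF'r cFree) (Groth.L22.CurveDeg.isCoh_tensor_locFree hF'r hgood.coh)
    change Curv2.euler k X (CohB1.tensorMod F' (FlatMod.freeMod X e)) =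
      Curv2.euler k X (CohB1.tensorMod F' F) + Curv2.euler k X (CohB1.tensorMod F' P) at h
    have hfr : Curv2.euler k X (CohB1.tensorMod F' (FlatMod.freeMod X e)) =
        e * Curv2.euler k X (CohB1.tensorMod F' O) := tensor_free hF'r e
    rw [hfr, euler_iso (tensorUnitRight F'), hres hF' A hAc.1, hχF'] at h
    rw [euler_iso eE]
    change _ = _ + Curv2.euler k C (CohB1.tensorMod G A) at h
    linarith [h]
  rw [hend, hGA, hG, hχF, hχC A, he, hg]
  ring

end Groth.L03.SurfExt
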