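import Groth.Agent.L03.SurfExt.Bidual
import Groth.Agent.L21.RR.Finite
import Groth.Agent.L22.ExtSh.ExtResidue
import Groth.Agent.L22.ExtSh.TorsionFree
import Groth.Agent.L16.CohSupport
import Groth.Agent.L18.GlobGen
import Groth.Agent.L18.AmpleGG

/-!
Modules of pure dimension one on a surface, their duals, and dual maps.
-/

set_option autoImplicit false
set_option backward.isDefEq.respectTransparency false
set_option linter.style.haveILetI false
set_option linter.unusedSectionVars false
universe u

open CategoryTheory CategoryTheory.Limits CategoryTheory.Abelian AlgebraicGeometry TopologicalSpace Opposite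
open IsLocalRing

noncomputable section

namespace Groth.L03.SurfExt

open Groth.L16
open Groth.L16.HomSh (homMod homModF)
open Groth.L22.ExtSh (E preNat additive_homModF)
open Groth.L22.PDual (pre')
open Groth.L21.RR (SuppClosed)
open Groth.L16.CohLinear (hmap overLin exact_hmap_hmap exact_hmap_delta exact_delta_hmap)

variable {X : Scheme.{u}}

/-- Coherent, zero at the generic point, of positive depth at the closed points. -/
structure Good [IrreducibleSpace X] (F : X.Modules) : Prop where
  coh : Coh.IsCoh F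
  gen : Subsingleton (F.presheaf.stalk (genericPoint ↥X))
  depth : ∀ x : X, IsClosed ({x} : Set ↥X) → ¬ Subsingleton (F.presheaf.stalk x) →
      (1 : ℕ∞) ≤ LocCoh.depth (X.presheaf.stalk x) (F.presheaf.stalk x)

/-- A module of positive depth has no elements killed by the maximal ideal. -/
theorem subsingleton_hom_residue {R : Type u} [CommRing R] [IsNoetherianRing R] [IsLocalRing R] {M : Type u}
    [AddCommGroup M] [Module R M] [Module.Finite R M] (h : (1 : ℕ∞) ≤ LocCoh.depth R M) {n : ℕ} (hn : n < 1) :
    Subsingleton (Ext (ModuleCat.of R (ResidueField R)) (ModuleCat.of R M) n) :=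
  Groth.L22.ExtSh.subsingleton_ext_of_depth (N := ResidueField R) (M := M) (n := 1) (by
    rw [show Module.annihilator R (ResidueField R) = maximalIdeal R from Ideal.annihilator_quotient]
    exact_mod_cast h) hn

/-- A good module supported at closed points only vanishes. -/
theorem subsingleton_stalk_of_suppClosed [IsIntegral X] [IsLocallyNoetherian X] {F : X.Modules} (hF : Good F)
    (hs : SuppClosed F) (x : X) : Subsingleton (F.presheaf.stalk x) := by
  have h := Groth.L22.ExtSh.subsingleton_ext_stalk_of_depth hF.coh hF.coh (n := 1) (fun y hy => by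
    refine_lift ?_
    exact_mod_cast hF.depth y (by_contra fun hc => hy (hs y hc)) hy) x (i := 0) Nat.one_pos
  refine subsingleton_of_forall_eq 0 fun v => ?_
  have h1 : (𝟙 (ModuleCat.of (X.presheaf.stalk x) (F.presheaf.stalk x))) = 0 :=
    (Ext.mk₀_bijective _ _).1 (@Subsingleton.elim _ h _ _)
  exact congrArg (fun φ : ModuleCat.of (X.presheaf.stalk x) (F.presheaf.stalk x) ⟶ _ => φ.hom v) h1

/-- Submodules of good modules are good. -/
theorem good_sub [IsIntegral X] [IsLocallyNoetherian X] {A F : X.Modules} (i : A ⟶ F) [Mono i]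
    (hA : Coh.IsCoh A) (hF : Good F) : Good A := by
  have hinj : ∀ x : X, Function.Injective ((Groth.L21.Mod.stalkF X x).map i) := fun x =>
    (Groth.L21.Mod.mono_iff_stalk_injective i).1 inferInstance x
  refine ⟨hA, @Function.Injective.subsingleton _ _ _ (hinj _) hF.gen, fun x hx hns => ?_⟩
  haveI := Groth.L06.SupportStalk.finite_stalk A hA x
  haveI := Groth.L06.SupportStalk.finite_stalk F hF.coh x
  have h := subsingleton_hom_residue (hF.depth x hx fun h => hns (@Function.Injective.subsingleton _ _ _ (hinj x) h))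
    Nat.one_pos
  refine Groth.L22.ExtSh.le_depth_of_subsingleton_ext (N := ResidueField (X.presheaf.stalk x))
    (M := A.presheaf.stalk x) (n := 1) fun n hn => ?_
  obtain rfl : n = 0 := by omega
  refine subsingleton_of_forall_eq 0 fun z => ?_
  obtain ⟨φ, rfl⟩ := (Ext.mk₀_bijective _ _).2 z
  haveI : Mono ((Groth.L00.Stk.F X x).map i) := inferInstance
  have h2 : φ ≫ ((Groth.L00.Stk.F X x).map i : ModuleCat.of (X.presheaf.stalk x) (A.presheaf.stalk x) ⟶
      ModuleCat.of (X.presheaf.stalk x) (F.presheaf.stalk x)) = 0 :=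
    (Ext.mk₀_bijective _ _).1 (@Subsingleton.elim _ h _ _)
  rw [(cancel_mono ((Groth.L00.Stk.F X x).map i)).1 (h2.trans zero_comp.symm)]
  rw [Ext.mk₀_zero]

/-- The dual of a good module is good. -/
theorem good_dual_of_seq [IsIntegral X] [IsLocallyNoetherian X]
    (hreg : ∀ x : X, IsRegularLocalRing (X.presheaf.stalk x))
    (hdimc : ∀ x : X, IsClosed ({x} : Set ↥X) → ringKrullDim (X.presheaf.stalk x) = (2 : ℕ))
    {S : ShortComplex X.Modules} (hS : S.ShortExact)
    (hf₁ : FlatMod.IsFinLocFree S.X₁) (hf₂ : FlatMod.IsFinLocFree S.X₂) {L : X.Modules} (hL : PicF.IsInvertible L)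
    (hη : Subsingleton (S.X₃.presheaf.stalk (genericPoint ↥X))) {A : X.Modules}
    (b : homMod S.X₁ L ⟶ A) (w : pre' L S.f ≫ b = 0) (hb : (ShortComplex.mk (pre' L S.f) b w).ShortExact) :
    Good A := by
  have h₁ := Groth.L16.NegPow.isCoh_of_isFinLocFree hf₁
  have h₂ := Groth.L16.NegPow.isCoh_of_isFinLocFree hf₂
  have hLc := Groth.L18.Ample.isCoh_of_isInvertible hL
  haveI : Coh.IsQCoh L := hLc.1
  let T := ShortComplex.mk (pre' L S.f) b w
  have hT : T.ShortExact := hb
  have hc1 := Groth.L16.HomSh.isCoh_homMod h₂ hLc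
  have hc2 := Groth.L16.HomSh.isCoh_homMod h₁ hLc
  have hAc : Coh.IsCoh A := by
    haveI := hb.epi_g
    exact Groth.L16.CohSupport.isCoh_of_iso
      ((cokernelIsCokernel (pre' L S.f)).coconePointUniqueUpToIso hb.exact.gIsCokernel)
      (Groth.L16.CohKernel.isCoh_kernel_cokernel hc1 hc2 (pre' L S.f)).2
  refine ⟨hAc, subsingleton_dual_eta hS hf₁ hf₂ hL hη b w hb, fun x hx hns => ?_⟩
  haveI := hreg x
  haveI := Groth.L06.SupportStalk.finite_stalk A hAc x
  refine Groth.L22.ExtSh.le_depth_of_subsingleton_ext (N := ResidueField (X.presheaf.stalk x)) (M := A.presheaf.stalk x)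
    (n := 1) fun n hn => ?_
  obtain rfl : n = 0 := by omega
  let R := X.presheaf.stalk x
  let κ := ModuleCat.of R (ResidueField R)
  obtain ⟨rs, hlen, hrs, hgen⟩ := Groth.L04.exists_regular_generators (hdimc x hx)
  have hdepth : ((2 : ℕ) : ℕ∞) ≤ LocCoh.depth R R := by
    rw [← hlen]
    exact Groth.L04.length_le_idealDepth hrs.1 fun r hr => hgen ▸ Ideal.subset_span hr
  have hE : ∀ {W : X.Modules}, FlatMod.IsFinLocFree W → ∀ i < 2,
      Subsingleton (Ext κ ((Groth.L00.Stk.F X x).obj W) i) := fun {W} hW i hi => by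
    haveI := Groth.L18.LFP.free_stalk W hW x
    haveI := Groth.L18.LFP.finite_stalk W (Groth.L18.LFP.isFP_of_isFinLocFree W hW) x
    refine Groth.L22.ExtSh.subsingleton_ext_free_right κ (W.presheaf.stalk x) ?_
    exact Groth.L22.ExtSh.subsingleton_ext_of_depth (N := ResidueField R) (M := R) (n := 2) (by
      rw [show Module.annihilator R (ResidueField R) = maximalIdeal R from Ideal.annihilator_quotient]
      exact hdepth) hi
  have hTx := hT.map_of_exact (Groth.L00.Stk.F X x)
  refine subsingleton_of_forall_eq 0 fun z => ?_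
  obtain ⟨y, hy⟩ := Ext.covariant_sequence_exact₃ κ hTx z (n₁ := 1) rfl
    (@Subsingleton.elim _ (hE (isFinLocFree_homMod hf₂ hL) 1 (by omega)) _ _)
  rw [← hy, @Subsingleton.elim _ (hE (isFinLocFree_homMod hf₁ hL) 0 (by omega)) y 0]
  rw [Ext.zero_comp]

end Groth.L03.SurfExt
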