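import Groth.Agent.L03.SurfAdj.Tools
import Groth.Agent.L03.SurfAdj.Section
import Groth.Agent.L03.ShStab.PicZStable
import Groth.Agent.L03.BlowPt.PullDiv
import Groth.Agent.L22.EnrSev.Basic

/-!
Invertible modules on a K3 surface with Picard group generated by an ample class have no `H¹`.
-/

set_option autoImplicit false
set_option backward.isDefEq.respectTransparency false
set_option linter.style.haveILetI false
set_option linter.unusedSectionVars false
universe u

open CategoryTheory CategoryTheory.Limits AlgebraicGeometry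

noncomputable section

namespace Groth.L03.SurfExt

open Groth.L22.Inter Groth.L22.Nef Groth.L22.Big Groth.L03.Euler Groth.L03.SurfNum Groth.L03.SurfAdj
open Groth.L00.Tensor (tensorIso tensorComm tensorUnitLeft tensorUnitRight tensorPowOne)
open Groth.L16.CohLinear (hmap overLin exact_hmap_hmap exact_hmap_delta exact_delta_hmap)
open Groth.L16.ProjSpace (subsingleton_of_iso)

variable (k : Type u) [Field k] [IsAlgClosed k] {X : Scheme.{u}} [X.Over (Spec (CommRingCat.of k))]
  [IsProper (X ↘ Spec (CommRingCat.of k))] [IsIntegral X]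

/-- The generator is the class of a curve. -/
theorem exists_generator_curve [PicGrp.Law X] (hdim : topologicalKrullDim X = 2)
    (hreg : ∀ x : X, IsRegularLocalRing (X.presheaf.stalk x))
    (hK : ExtPow.IsExtPow 2 (Omega.sheaf (X ↘ Spec (CommRingCat.of k))) (Coh.structureModule X))
    (hq : Module.finrank k (Coh.HH X (Coh.structureModule X) 1) = 0)
    {G Gi : X.Modules} (hG : PicF.IsInvertible G) (hGa : CohB1.IsAmple G) (hGi : PicF.IsInvertible Gi)
    (ι : CohB1.tensorMod G Gi ≅ Coh.structureModule X)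
    (hgen : ∀ c : PicLoc.PicSet X, ∃ n : ℤ, c = PicGrp.cls G hG ^ n) :
    ∃ I : X.IdealSheafData, IsIntegral I.subscheme ∧ topologicalKrullDim (I.support : Set X) = 1 ∧
      PicF.IsInvertible (ClSub.idealMod I) ∧ Nonempty (ClSub.idealMod I ≅ Gi) := by
  have hd2 : topologicalKrullDim X = (2 : ℕ) := hdim.trans Nat.cast_ofNat.symm
  haveI := Groth.L21.RR.isNoetherian_of_proper (X := X) k
  obtain ⟨hO, hflip, hflip0, hRR⟩ := canonical k hdim hreg hK
  have hGG := ii_ample_pos k hd2.le hd2 hGa
  have hiG : ii k Gi G = - ii k G G := Gram.ii_inverse k hd2.le hG hGi hG ι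
  have hh0 : Module.finrank k (Coh.HH X (Coh.structureModule X) 0) = 1 :=
    Groth.L22.CurveDeg.h0_structure_eq_one k (X := X)
  have hχO : Curv2.euler k X (Coh.structureModule X) = 2 := by
    rw [euler_three k hd2, show Module.finrank k (Coh.HH X (Coh.structureModule X) 2) = 1 from
      (hflip0 2 le_rfl).trans hh0, hq, hh0]
    norm_num
  have h2 : Module.finrank k (Coh.HH X G 2) = 0 := by
    refine (hflip G Gi hG ⟨ι⟩ 0 (Nat.zero_le 2)).symm.trans ?_
    rw [finrank_HH_of_iso (tensorUnitLeft Gi) 0]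
    by_contra hne
    have := (section_facts k hd2 hGi hGa (Module.nontrivial_of_finrank_pos (Nat.pos_of_ne_zero hne))).1
    linarith
  have h0 : 0 < Module.finrank k (Coh.HH X G 0) := by
    by_contra hle
    have hχ := hRR G hG
    have hGO : ii k G (Coh.structureModule X) = 0 := by
      rw [ii_comm]
      exact altT_unit k _
    rw [hGO, hχO, euler_three k hd2 G, h2, Nat.eq_zero_of_not_pos hle] at hχ
    push_cast at hχ
    have : (0 : ℚ) ≤ (Module.finrank k (Coh.HH X G 1) : ℚ) := Nat.cast_nonneg _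
    linarith
  haveI := Module.nontrivial_of_finrank_pos h0
  obtain ⟨s, hs⟩ := Groth.L21.RR.exists_hom_ne_zero (L := G)
  obtain ⟨T, m, hT, hT', hsum⟩ :=
    exists_sum_curves k hd2.le hG s (Groth.L22.CurveAmple.genericPoint_mem_genLocus hG hs)
  have hGGs := hsum G hG
  obtain ⟨y, hy⟩ : T.Nonempty := by
    by_contra hne
    rw [Finset.not_nonempty_iff_eq_empty.1 hne, Finset.sum_empty] at hGGs
    linarith
  let I := pt y
  haveI := isIntegral_pt y
  have hsupp : topologicalKrullDim (I.support : Set X) = 1 := by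
    have h := (hT y hy).1
    rw [Nat.cast_one] at h
    exact h
  have hI : PicF.IsInvertible (ClSub.idealMod I) := isInvertible_idealMod k hd2 hreg I hsupp
  have hIG := Gram.curve_ample_neg k hd2.le hGa I hsupp hI
  obtain ⟨n, hn⟩ : ∃ n : ℕ, Nonempty (CohB1.tensorMod (ClSub.idealMod I) (CohB1.tensorPow G n) ≅
      Coh.structureModule X) := by
    rcases Groth.L03.ShStab.PicZStable.exists_pow_iso hG hgen hI with ⟨n, ⟨e⟩⟩ | h
    · exfalso
      rw [ii_congr k e G, ii_pow k hd2.le hG hG] at hIG
      nlinarith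
    · exact h
  obtain ⟨en⟩ := hn
  have hPn := Groth.L18.Ample.isInvertible_tensorPow hG n
  have h1 : ii k (ClSub.idealMod I) G = - (n * ii k G G) := by
    rw [← ii_pow k hd2.le hG hG n]
    rw [Gram.ii_inverse k hd2.le hI hPn hG en, neg_neg]
  have hdeg : altT k (fun _ : Fin 1 => G) (ClSub.quotMod I) = n * ii k G G := by
    rw [altT_quotMod_eq k hG I hI, h1, neg_neg]
  have hpos : ∀ z ∈ T, 0 ≤ (m z : ℚ) * altT k (fun _ : Fin 1 => G) (ClSub.quotMod (pt z)) := fun z hz => by
    haveI := isIntegral_pt z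
    have hz1 : topologicalKrullDim ((pt z).support : Set X) = 1 := by
      have h := (hT z hz).1
      rw [Nat.cast_one] at h
      exact h
    have hzI := isInvertible_idealMod k hd2 hreg (pt z) hz1
    have := Gram.curve_ample_neg k hd2.le hGa (pt z) hz1 hzI
    rw [altT_quotMod_eq k hG (pt z) hzI]
    exact mul_nonneg (Nat.cast_nonneg _) (by linarith)
  have hle := Finset.single_le_sum hpos hy
  rw [← hGGs] at hle
  have hm1 : (1 : ℚ) ≤ m y := by exact_mod_cast (hT' y (hT y hy).1 (hT y hy).2).2
  have hle' : (m y : ℚ) * altT k (fun _ : Fin 1 => G) (ClSub.quotMod I) ≤ ii k G G := hle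
  rw [hdeg] at hle'
  have hn1 : n = 1 := by
    have h3 : (n : ℚ) ≤ 1 := by
      nlinarith [mul_le_mul_of_nonneg_right hm1 (mul_nonneg (Nat.cast_nonneg n) hGG.le)]
    have hn0 : n ≠ 0 := fun h => by
      rw [h, Nat.cast_zero, zero_mul, neg_zero] at h1
      linarith
    have : n ≤ 1 := by exact_mod_cast h3
    omega
  subst hn1
  exact ⟨I, inferInstance, hsupp, hI, Groth.L03.BlowPt.nonempty_iso_of_inverse
    (tensorIso (Iso.refl (ClSub.idealMod I)) (tensorPowOne G).symm ≪≫ en) (tensorComm Gi G ≪≫ ι)⟩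

/-- `H¹` of every invertible module vanishes on a K3 surface with Picard group generated by an ample class. -/
theorem subsingleton_h1_invertible [PicGrp.Law X] (hdim : topologicalKrullDim X = 2)
    (hreg : ∀ x : X, IsRegularLocalRing (X.presheaf.stalk x))
    (hK : ExtPow.IsExtPow 2 (Omega.sheaf (X ↘ Spec (CommRingCat.of k))) (Coh.structureModule X))
    (hq : Module.finrank k (Coh.HH X (Coh.structureModule X) 1) = 0)
    {G : X.Modules} (hG : PicF.IsInvertible G) (hGa : CohB1.IsAmple G)
    (hgen : ∀ c : PicLoc.PicSet X, ∃ n : ℤ, c = PicGrp.cls G hG ^ n) (M : X.Modules) (hM : PicF.IsInvertible M) :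
    Subsingleton (Coh.HH X M 1) := by
  have hd2 : topologicalKrullDim X = (2 : ℕ) := hdim.trans Nat.cast_ofNat.symm
  haveI := Groth.L21.RR.isNoetherian_of_proper (X := X) k
  obtain ⟨Gi, hGi, ⟨ι⟩⟩ := Groth.L08.Cube.exists_inverse hG
  obtain ⟨J, hJint, hJdim, hJ, ⟨eJ⟩⟩ := exists_generator_curve k hdim hreg hK hq hG hGa hGi ι hgen
  obtain ⟨hO, hflip, hflip0, -⟩ := canonical k hdim hreg hK
  let O := Coh.structureModule X
  let I := ClSub.idealMod J
  haveI := hJint
  let g := J.subschemeι
  letI : J.subscheme.Over (Spec (CommRingCat.of k)) := ⟨g ≫ (X ↘ Spec (CommRingCat.of k))⟩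
  haveI : IsProper (J.subscheme ↘ Spec (CommRingCat.of k)) :=
    inferInstanceAs (IsProper (g ≫ (X ↘ Spec (CommRingCat.of k))))
  haveI := Groth.L21.RR.isNoetherian_of_proper (X := J.subscheme) k
  have hCd : topologicalKrullDim J.subscheme = 1 := by
    rw [← dim_closure_image g, ← dim_support J, hJdim]
  have hh0 : Module.finrank k (Coh.HH X O 0) = 1 := Groth.L22.CurveDeg.h0_structure_eq_one k (X := X)
  have hGG := ii_ample_pos k hd2.le hd2 hGa
  have hiG : ii k Gi G = - ii k G G := Gram.ii_inverse k hd2.le hG hGi hG ι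
  have hII : ii k I I = ii k G G := by
    rw [ii_congr k eJ, ii_comm, ii_congr k eJ, Gram.ii_inverse k hd2.le hG hGi hGi ι, ii_comm k G Gi, hiG, neg_neg]
  have hfin : ∀ {N : X.Modules}, Coh.IsCoh N → ∀ i, Module.Finite k (Coh.HH X N i) := fun hN i =>
    Groth.L16.ProperFinite.finite_HH k hN i
  have hseq := Groth.L21.RR.shortExact_idealSeq J
  haveI hO1 : Subsingleton (Coh.HH X O 1) := by
    haveI := hfin (Groth.L18.Ample.isCoh_of_isInvertible hO) 1
    exact Module.finrank_zero_iff.1 hq
  -- the twists by the curve have no sections on it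
  have hneg : ∀ n, 1 ≤ n → Subsingleton (Coh.HH X (CohB1.tensorMod (ClSub.quotMod J) (CohB1.tensorPow I n)) 0) := by
    intro n hn
    have hP := Groth.L18.Ample.isInvertible_tensorPow hJ n
    have hPC := Groth.L18.Ample.isInvertible_pullback g hP
    have hdeg : Curv2.deg k J.subscheme ((Scheme.Modules.pullback g).obj (CohB1.tensorPow I n)) 1 < 0 := by
      have e1 : ∀ L : X.Modules, PicF.IsInvertible L →
          Curv2.euler k X (CohB1.tensorMod (ClSub.quotMod J) L) =
            Curv2.euler k J.subscheme ((Scheme.Modules.pullback g).obj L) := fun L hL => by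
        rw [euler_iso (tensorComm _ L)]
        refine finsum_congr fun p => ?_
        obtain ⟨q⟩ := nonempty_twistQuot_equiv k J hL p
        rw [q.finrank_eq]
      have h2 := Gram.deg_eq k J hJ hP
      rw [ii_pow_right k hd2.le hJ hJ, hII, e1 _ hP, euler_subscheme k J] at h2
      have hnp : (0 : ℚ) < n * ii k G G := mul_pos (Nat.cast_pos.2 hn) hGG
      rw [Curv2.deg, Nat.cast_one, one_mul]
      exact_mod_cast (show ((_ : ℤ) : ℚ) < 0 by rw [h2]; linarith)
    obtain ⟨q⟩ := nonempty_twistQuot_equiv k J hP 0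
    haveI : Subsingleton (Coh.HH J.subscheme ((Scheme.Modules.pullback g).obj (CohB1.tensorPow I n)) 0) := by
      by_contra h
      haveI := not_subsingleton_iff_nontrivial.1 h
      exact absurd (Groth.L21.RR.deg_nonneg k hCd.le hPC inferInstance) (not_le.2 hdeg)
    exact subsingleton_of_iso (tensorComm _ _) 0 q.toEquiv.subsingleton
  -- the negative multiples
  have hpow : ∀ n, Subsingleton (Coh.HH X (CohB1.tensorPow I n) 1) := by
    intro n
    induction n with
    | zero => exact inferInstanceAs (Subsingleton (Coh.HH X O 1))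
    | succ n ih =>
      rcases Nat.eq_zero_or_pos n with rfl | hn
      · refine subsingleton_of_iso (tensorPowOne I) 1 (subsingleton_of_forall_eq 0 fun z => ?_)
        obtain ⟨y, hy⟩ := (exact_delta_hmap hseq 0 z).1 (@Subsingleton.elim _ hO1 _ _)
        haveI : Module.Finite k (Coh.HH X O 0) := hfin (Groth.L18.Ample.isCoh_of_isInvertible hO) 0
        haveI : Module.Finite k (Coh.HH X (ClSub.quotMod J) 0) := hfin (Groth.L21.RR.isCoh_quotMod J) 0
        obtain ⟨q⟩ := nonempty_twistQuot_equiv k J hO 0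
        have hq0 : Module.finrank k (Coh.HH X (ClSub.quotMod J) 0) = 1 := by
          rw [← finrank_HH_of_iso (tensorUnitLeft (ClSub.quotMod J)), q.finrank_eq,
            finrank_HH_of_iso (Groth.L29.LocFree.pullbackUnitIso g)]
          exact Groth.L22.CurveDeg.h0_structure_eq_one k (X := J.subscheme)
        have hI0 : Subsingleton (Coh.HH X I 0) := by
          refine subsingleton_of_iso eJ 0 ?_
          by_contra h
          have := (section_facts k hd2 hGi hGa (not_subsingleton_iff_nontrivial.1 h)).1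
          linarith
        let p := overLin k (hmap (ClSub.toSubscheme J) 0)
        have hinj : Function.Injective p := (injective_iff_map_eq_zero p).2 fun a ha => by
          obtain ⟨b, rfl⟩ := (exact_hmap_hmap hseq 0 a).1 ha
          rw [@Subsingleton.elim _ hI0 b 0, map_zero]
        obtain ⟨x, rfl⟩ := (LinearMap.injective_iff_surjective_of_finrank_eq_finrank (hh0.trans hq0.symm)).1 hinj y
        rw [← hy]
        exact (exact_hmap_delta hseq 0 _).2 ⟨x, rfl⟩
      · have hT := shortExact_tensor (Groth.L18.Ample.isInvertible_tensorPow hJ n) hseq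
        refine subsingleton_of_iso (tensorComm (CohB1.tensorPow I n) I) 1 (subsingleton_of_forall_eq 0 fun z => ?_)
        obtain ⟨y, hy⟩ := (exact_delta_hmap hT 0 z).1
          (@Subsingleton.elim _ (subsingleton_of_iso (tensorUnitLeft (CohB1.tensorPow I n)) 1 ih) _ _)
        rw [← hy, @Subsingleton.elim _ (hneg n hn) y 0, map_zero]
  -- every invertible module
  have hb : ∀ N : X.Modules, ∀ n : ℕ, Nonempty (CohB1.tensorMod N (CohB1.tensorPow G n) ≅ O) →
      Subsingleton (Coh.HH X N 1) := fun N n ⟨e⟩ => by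
    obtain ⟨e'⟩ := Groth.L03.BlowPt.nonempty_iso_of_inverse e
      (Groth.L22.EnrSev.powInv (tensorIso (Iso.refl G) eJ ≪≫ ι) n)
    exact subsingleton_of_iso e' 1 (hpow n)
  rcases Groth.L03.ShStab.PicZStable.exists_pow_iso hG hgen hM with ⟨n, ⟨e⟩⟩ | ⟨n, hn⟩
  swap
  · exact hb M n hn
  obtain ⟨M', hM', ⟨i⟩⟩ := Groth.L08.Cube.exists_inverse hM
  haveI := hb M' n ⟨tensorIso (Iso.refl M') e.symm ≪≫ tensorComm M' M ≪≫ i⟩
  haveI := hfin (Groth.L18.Ample.isCoh_of_isInvertible hM) 1
  refine Module.finrank_zero_iff (R := k) |>.1 ?_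
  rw [← finrank_HH_of_iso (tensorUnitLeft M), hflip M' M hM' ⟨tensorComm M' M ≪≫ i⟩ 1 (by omega)]
  exact Module.finrank_zero_of_subsingleton

end Groth.L03.SurfExt
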