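import Groth.Agent.L03.SurfExt.OnCurve
import Groth.Agent.L13.PairBlow.Basic
import Groth.Agent.L03.ShStab.QuadricCoh

/-!
Serre duality for finite locally free modules on a surface.
-/

set_option autoImplicit false
set_option backward.isDefEq.respectTransparency false
set_option linter.style.haveILetI false
set_option linter.unusedSectionVars false
universe u

open CategoryTheory CategoryTheory.Limits CategoryTheory.Abelian AlgebraicGeometry

noncomputable section

namespace Groth.L03.SurfExt

open Groth.L16.HomSh (homMod homModF)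
open Groth.L22.ExtSh (E)

variable {k : Type u} [Field k] {X : Scheme.{u}} [X.Over (Spec (CommRingCat.of k))]
  [IsProper (X ↘ Spec (CommRingCat.of k))] [IsIntegral X] {ω : X.Modules}

/-- Serre duality for finite locally free modules. -/
theorem Ctx.finrank_HH_dual (c : Ctx k X ω) {G : X.Modules} (hG : FlatMod.IsFinLocFree G) {i : ℕ} (hi : i ≤ 2) :
    Module.finrank k (Coh.HH X (homMod G ω) i) = Module.finrank k (Coh.HH X G (2 - i)) := by
  haveI := Groth.L21.RR.isNoetherian_of_proper (X := X) k
  haveI := Groth.L00.Tensor.grothendieckAbelian_modules X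
  haveI : HasExt.{u} X.Modules := IsGrothendieckAbelian.hasExt _
  obtain ⟨N, ι, hι, hιk⟩ := id c.proj
  haveI := hι
  obtain ⟨t, ht⟩ := c.dual
  obtain ⟨h1, -⟩ := Groth.Agent.S15517.result k N 2 X ι hιk (c.dim.trans Nat.cast_ofNat.symm)
    (fun x hx => ⟨(haveI := c.reg x; Groth.L04.isCohenMacaulayLocalRing_of_regular _), c.dimClosed x hx⟩)
    ω (Groth.L18.Ample.isCoh_of_isInvertible c.inv) t ht G (Groth.L16.NegPow.isCoh_of_isFinLocFree hG)
  obtain ⟨e⟩ := h1 i hi
  haveI := Groth.L00.Tensor.dcoh_hasSheafHom G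
  obtain ⟨e'⟩ := Groth.L22.PDual.nonempty_ext_linearEquiv (k := k) G hG i ω
  show Module.finrank k (Coh.HH X ((homModF G).obj ω) i) = _
  rw [← Groth.L03.Euler.finrank_HH_of_iso ((dIso G).app ω), ← e'.finrank_eq, e.finrank_eq,
    Subspace.dual_finrank_eq]

/-- Homomorphisms are the sections of the sheaf of homomorphisms. -/
theorem finrank_hom (F G : X.Modules) :
    Module.finrank k (F ⟶ G) = Module.finrank k (Coh.HH X (homMod F G) 0) := by
  haveI := Groth.L00.Tensor.dcoh_hasSheafHom F
  rw [(Groth.L22.PDual.η (k := k) F G).finrank_eq, Groth.L03.Euler.finrank_HH_of_iso ((dIso F).app G)]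
  rfl

/-- Currying, linearly. -/
def curryLin (M P N : X.Modules) : (CohB1.tensorMod M P ⟶ N) ≃ₗ[k] (P ⟶ homMod M N) :=
  { (Groth.L16.HomSh.tensorHomAdj M).homEquiv P N with
    map_add' := fun a b => by
      haveI := Groth.L22.ExtSh.additive_homModF M
      rw [Equiv.toFun_as_coe, Adjunction.homEquiv_unit, Adjunction.homEquiv_unit, Adjunction.homEquiv_unit,
        Functor.map_add, Preadditive.comp_add]
    map_smul' := fun c a => by
      rw [Equiv.toFun_as_coe]
      show Groth.L16.HomSh.curryHom (c • a) = c • Groth.L16.HomSh.curryHom a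
      rw [KLin.smul_def, KLin.smul_def]
      refine Groth.L16.HomSh.hom_ext_ev fun U p W h x => ?_
      rw [Groth.L16.HomSh.ev_curryHom]
      show a.app W ((Formal.smulMod k _ c).app W (Groth.L18.GenLoc.tens M P W x (Groth.L18.Frame.rs P h p))) =
        a.app W (Groth.L18.GenLoc.tens M P W x (Groth.L18.Frame.rs P h ((Formal.smulMod k P c).app U p)))
      rw [← Groth.L16.HomSh.hom_app_rs]
      refine congrArg (a.app W) ?_
      exact (Groth.L18.GenLoc.tens_smul_right _ _ _).symm }

end Groth.L03.SurfExt
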