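import Groth.Agent.L03.SurfExt.Bidual
import Groth.Agent.L16.HomSh.Adjunction
import Groth.Agent.L20.ResDescent
import Groth.Agent.L21.RR.Point
import Groth.Agent.L21.Bundle.Sub
import Groth.Agent.L21.Disc.Push
import Groth.Agent.L03.ShStab.ExtTwistPn
import Groth.Agent.L03.ShStab.GeneralSections
import Groth.Agent.L19.ClosedPointLN
import Mathlib.RingTheory.LocalRing.Module
import Mathlib.LinearAlgebra.TensorProduct.Quotient

/-!
Extensions with middle term that is not locally free.
-/

set_option autoImplicit false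
set_option backward.isDefEq.respectTransparency false
set_option linter.style.haveILetI false
set_option linter.unusedSectionVars false
universe u

open CategoryTheory CategoryTheory.Limits CategoryTheory.Abelian AlgebraicGeometry TopologicalSpace Opposite
open IsLocalRing (maximalIdeal residue)
open scoped TensorProduct

noncomputable section

namespace Groth.L03.SurfExt

open Groth.L16.HomSh (homMod)
open Groth.L22.PDual (pre' stalkHom)
open Groth.L16.CohLinear (hmap exact_hmap_delta)
open Groth.L00.Tensor (tensorUnitRight tensorMap)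

/-- The residue of an element vanishes exactly when it is a multiple of the maximal ideal. -/
theorem one_tmul_eq_zero_iff {R M : Type u} [CommRing R] [IsLocalRing R] [AddCommGroup M] [Module R M] (v : M) :
    (1 : IsLocalRing.ResidueField R) ⊗ₜ[R] v = 0 ↔ v ∈ maximalIdeal R • (⊤ : Submodule R M) := by
  rw [← (TensorProduct.quotTensorEquivQuotSMul M (maximalIdeal R)).map_eq_zero_iff,
    show TensorProduct.quotTensorEquivQuotSMul M (maximalIdeal R) ((1 : IsLocalRing.ResidueField R) ⊗ₜ[R] v) =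
      Submodule.Quotient.mk v from by
        rw [show (1 : IsLocalRing.ResidueField R) = Ideal.Quotient.mk (maximalIdeal R) 1 from rfl]
        exact (TensorProduct.quotTensorEquivQuotSMul_mk_tmul (maximalIdeal R) 1 v).trans (by rw [one_smul]),
    Submodule.Quotient.mk_eq_zero]

/-- A map of finite free modules without retraction kills some nonzero residue. -/
theorem exists_mem_smul_of_not_surjective_comp {R K P L : Type u} [CommRing R] [IsLocalRing R] [AddCommGroup K]
    [Module R K] [Module.Finite R K] [Module.Free R K] [AddCommGroup P] [Module R P] [Module.Finite R P]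
    [Module.Free R P] [AddCommGroup L] [Module R L] (f : K →ₗ[R] P)
    (h : ¬ Function.Surjective fun θ : P →ₗ[R] L => θ.comp f) :
    ∃ w : K, w ∉ maximalIdeal R • (⊤ : Submodule R K) ∧ f w ∈ maximalIdeal R • (⊤ : Submodule R P) := by
  by_contra hc
  push Not at hc
  refine h ?_
  obtain ⟨r, hr⟩ := (IsLocalRing.split_injective_iff_lTensor_residueField_injective f).2
    ((injective_iff_map_eq_zero _).2 fun z hz => by
      obtain ⟨w, rfl⟩ := TensorProduct.mk_surjective R K (IsLocalRing.ResidueField R)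
        IsLocalRing.residue_surjective z
      rw [TensorProduct.mk_apply] at hz ⊢
      rw [LinearMap.lTensor_tmul] at hz
      rw [one_tmul_eq_zero_iff] at hz ⊢
      by_contra hw
      exact hc w hw hz)
  intro φ
  refine ⟨φ.comp r, ?_⟩
  show (φ.comp r).comp f = φ
  rw [LinearMap.comp_assoc, hr, LinearMap.comp_id]

variable {X : Scheme.{u}}

/-- The composite at a stalk. -/
theorem stalkMapₗ_comp_apply {A B C : X.Modules} (f : A ⟶ B) (g : B ⟶ C) (x : X) (z : A.presheaf.stalk x) :
    RefHull.stalkMapₗ (f ≫ g) x z = RefHull.stalkMapₗ g x (RefHull.stalkMapₗ f x z) :=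
  congr($((Groth.L21.Mod.stalkF X x).map_comp f g) z)

theorem stalkMapₗ_zero_apply (A B : X.Modules) (x : X) (v : A.presheaf.stalk x) :
    RefHull.stalkMapₗ (0 : A ⟶ B) x v = 0 :=
  congr($((Groth.L21.Mod.stalkF X x).map_zero A B) v)

/-- A pushout of an extension with free middle stalk detects the residues killed by both maps. -/
theorem not_isFinLocFree_pushout [IsLocallyNoetherian X] {K P N L : X.Modules} {ι : K ⟶ P} {p : P ⟶ N}
    {w : ι ≫ p = 0} (hS : (ShortComplex.mk ι p w).ShortExact) {V : X.Modules} (φ : K ⟶ L) (a : L ⟶ V) (ψ : P ⟶ V)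
    (b : V ⟶ N) (hsq : φ ≫ a = ι ≫ ψ) (hb : ψ ≫ b = p) {wv : a ≫ b = 0} (hV : (ShortComplex.mk a b wv).ShortExact)
    (x : X) {z : K.presheaf.stalk x}
    (hz : z ∉ maximalIdeal (X.presheaf.stalk x) • (⊤ : Submodule (X.presheaf.stalk x) (K.presheaf.stalk x)))
    (hι : RefHull.stalkMapₗ ι x z ∈ maximalIdeal (X.presheaf.stalk x) • (⊤ : Submodule (X.presheaf.stalk x) (P.presheaf.stalk x)))
    (hφ : RefHull.stalkMapₗ φ x z ∈ maximalIdeal (X.presheaf.stalk x) • (⊤ : Submodule (X.presheaf.stalk x) (L.presheaf.stalk x))) :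
    ¬ FlatMod.IsFinLocFree V := by
  intro hfree
  haveI := Groth.L18.LFP.free_stalk V hfree x
  let R := X.presheaf.stalk x
  let ιx := RefHull.stalkMapₗ ι x
  let φx := RefHull.stalkMapₗ φ x
  let ax := RefHull.stalkMapₗ a x
  let ψx := RefHull.stalkMapₗ ψ x
  let bx := RefHull.stalkMapₗ b x
  let px := RefHull.stalkMapₗ p x
  have hSx := (Groth.L21.Mod.shortExact_iff_stalk _).1 hS x
  have hVx := (Groth.L21.Mod.shortExact_iff_stalk _).1 hV x
  have hιinj : Function.Injective ιx := (AddCommGrpCat.mono_iff_injective _).1 hSx.mono_f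
  have hax : Function.Injective ax := (AddCommGrpCat.mono_iff_injective _).1 hVx.mono_f
  have hp : Function.Surjective px := (AddCommGrpCat.epi_iff_surjective _).1 hSx.epi_g
  have hex : ∀ v, px v = 0 → ∃ u, ιx u = v := (ShortComplex.ab_exact_iff _).1 hSx.exact
  have hex' : ∀ v, bx v = 0 → ∃ u, ax u = v := (ShortComplex.ab_exact_iff _).1 hVx.exact
  have hs1 : ∀ u, ax (φx u) = ψx (ιx u) := fun u => by
    rw [← stalkMapₗ_comp_apply, ← stalkMapₗ_comp_apply, hsq]
  have hs2 : ∀ v, bx (ψx v) = px v := fun v => by rw [← stalkMapₗ_comp_apply, hb]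
  have hs3 : ∀ v, bx (ax v) = 0 := fun v => by
    rw [← stalkMapₗ_comp_apply, wv]
    exact stalkMapₗ_zero_apply L N x v
  let q : L.presheaf.stalk x × P.presheaf.stalk x →ₗ[R] V.presheaf.stalk x := ax.coprod ψx
  have hq : Function.Surjective q := fun v => by
    obtain ⟨t, ht⟩ := hp (bx v)
    obtain ⟨u, hu⟩ := hex' (v - ψx t) (by rw [map_sub, hs2, ht, sub_self])
    exact ⟨(u, t), by show ax u + ψx t = v; rw [hu, sub_add_cancel]⟩
  let i : K.presheaf.stalk x →ₗ[R] L.presheaf.stalk x × P.presheaf.stalk x := φx.prod (-ιx)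
  have hi : Function.Injective i := fun u u' h => hιinj (by
    have := congrArg Prod.snd h
    exact neg_injective this)
  have hker : ∀ l t, q (l, t) = 0 → ∃ u, i u = (l, t) := fun l t h => by
    change ax l + ψx t = 0 at h
    have ht : px t = 0 := by
      have h' := congrArg bx h
      rw [map_add, map_zero, hs3, zero_add, hs2] at h'
      exact h'
    obtain ⟨u, hu⟩ := hex (-t) (by rw [map_neg, ht, neg_zero])
    refine ⟨u, Prod.ext (hax ?_) (by show -ιx u = t; rw [hu, neg_neg])⟩
    show ax (φx u) = ax l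
    rw [hs1, hu, map_neg, ← eq_neg_of_add_eq_zero_left h]
  obtain ⟨σ, hσ⟩ := Module.projective_lifting_property q LinearMap.id hq
  have hmem : ∀ y, q (y - σ (q y)) = 0 := fun y => by
    rw [map_sub, show q (σ (q y)) = q y from LinearMap.congr_fun hσ (q y), sub_self]
  choose r hr using fun y => hker (y - σ (q y)).1 (y - σ (q y)).2 (hmem y)
  let rl : L.presheaf.stalk x × P.presheaf.stalk x →ₗ[R] K.presheaf.stalk x :=
    { toFun := r
      map_add' := fun y y' => hi (by rw [map_add, hr, hr, hr, map_add, map_add, add_sub_add_comm])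
      map_smul' := fun c y => hi (by
        rw [RingHom.id_apply, map_smul, hr, hr, map_smul, map_smul, ← smul_sub]) }
  have hri : r (i z) = z := hi (by
    rw [hr, show q (i z) = 0 from by
      show ax (φx z) + ψx (-ιx z) = 0
      rw [map_neg, hs1, add_neg_cancel], map_zero, sub_zero])
  refine hz ?_
  rw [← hri]
  have h1 : i z = LinearMap.inl R _ _ (φx z) + LinearMap.inr R _ _ (-ιx z) :=
    Prod.ext (by simp [i]) (by simp [i])
  show rl (i z) ∈ _
  rw [h1, map_add]
  refine Submodule.add_mem _ ?_ ?_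
  · exact (Submodule.map_smul'' (maximalIdeal R) ⊤ (rl.comp (LinearMap.inl R _ _))).le.trans
      (Submodule.smul_mono le_rfl le_top) ⟨_, hφ, rfl⟩
  · exact (Submodule.map_smul'' (maximalIdeal R) ⊤ (rl.comp (LinearMap.inr R _ _))).le.trans
      (Submodule.smul_mono le_rfl le_top) ⟨_, Submodule.neg_mem _ hι, rfl⟩

/-- A module with no stalks at the closed points is zero. -/
theorem isZero_of_closed [IsLocallyNoetherian X] {Q : X.Modules} (hQ : Coh.IsCoh Q)
    (h : ∀ x : X, IsClosed ({x} : Set ↥X) → Subsingleton (Q.presheaf.stalk x)) : IsZero Q := by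
  rw [Groth.L21.Mod.isZero_iff_stalk_subsingleton]
  intro x
  by_contra hx
  obtain ⟨y, hxy, hy⟩ := Groth.L19.ClosedPointLN.exists_closed_specialization (X := X) x
  exact (hxy.mem_closed (Groth.L16.CohSupport.isClosed_support Q hQ.2) (show x ∈ CohB1.support Q from hx)) (h y hy)

variable (k : Type u) [Field k] [X.Over (Spec (CommRingCat.of k))]
  [IsProper (X ↘ Spec (CommRingCat.of k))] [IsIntegral X]

include k in
/-- Without `H¹` of invertible modules, a module of rank one with a nonsplit extension by an invertible module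
has a closed point at which its presentations lose residues. -/
theorem exists_bad_residue (hH1 : ∀ M : X.Modules, PicF.IsInvertible M → Subsingleton (Coh.HH X M 1))
    {K P N L L' : X.Modules} {ι : K ⟶ P} {p : P ⟶ N} {w : ι ≫ p = 0} (hS : (ShortComplex.mk ι p w).ShortExact)
    (hK : FlatMod.IsFinLocFree K) (hP : FlatMod.IsFinLocFree P) (hN : Coh.IsCoh N) (hL : PicF.IsInvertible L)
    (hL' : PicF.IsInvertible L') (j : N ⟶ L') [Mono j]
    (hη : Subsingleton ((cokernel j).presheaf.stalk (genericPoint ↥X)))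
    {φ : K ⟶ L} (hφ : ∀ ψ : P ⟶ L, ι ≫ ψ ≠ φ) :
    ∃ x : X, IsClosed ({x} : Set ↥X) ∧ ∃ z : K.presheaf.stalk x,
      z ∉ maximalIdeal (X.presheaf.stalk x) • (⊤ : Submodule (X.presheaf.stalk x) (K.presheaf.stalk x)) ∧
      RefHull.stalkMapₗ ι x z ∈
        maximalIdeal (X.presheaf.stalk x) • (⊤ : Submodule (X.presheaf.stalk x) (P.presheaf.stalk x)) := by
  haveI := Groth.L21.RR.isNoetherian_of_proper (X := X) k
  by_contra hc
  have cK := Groth.L16.NegPow.isCoh_of_isFinLocFree hK
  have cP := Groth.L16.NegPow.isCoh_of_isFinLocFree hP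
  have cL := Groth.L18.Ample.isCoh_of_isInvertible hL
  haveI : Coh.IsQCoh L := cL.1
  have hA := isFinLocFree_homMod hP hL
  have hB := isFinLocFree_homMod hK hL
  have cA := Groth.L16.NegPow.isCoh_of_isFinLocFree hA
  have cB := Groth.L16.NegPow.isCoh_of_isFinLocFree hB
  have b₁ := fun x => Groth.L22.PDual.bijective_stalkHom K L cK x
  have b₂ := fun x => Groth.L22.PDual.bijective_stalkHom P L cP x
  have b₃ := fun x => Groth.L22.PDual.bijective_stalkHom N L hN x
  haveI hepi : Epi (pre' L ι) := by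
    refine Preadditive.epi_of_isZero_cokernel _ (isZero_of_closed
      (Groth.L16.CohKernel.isCoh_kernel_cokernel cA cB _).2 fun x hx => subsingleton_of_forall_eq 0 fun y => ?_)
    haveI := Groth.L18.LFP.free_stalk K hK x
    haveI := Groth.L18.LFP.free_stalk P hP x
    haveI := Groth.L06.SupportStalk.finite_stalk K cK x
    haveI := Groth.L06.SupportStalk.finite_stalk P cP x
    obtain ⟨θ, rfl⟩ := (Groth.L21.Mod.epi_iff_stalk_surjective (cokernel.π (pre' L ι))).1 inferInstance x y
    have hsurj : Function.Surjective fun θ : RefHull.StalkHom P L x => θ.comp (RefHull.stalkMapₗ ι x) := by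
      by_contra hs
      obtain ⟨z, hz1, hz2⟩ := exists_mem_smul_of_not_surjective_comp (RefHull.stalkMapₗ ι x) hs
      exact hc ⟨x, hx, z, hz1, hz2⟩
    obtain ⟨η, hη'⟩ := hsurj (stalkHom K L x θ)
    obtain ⟨θ', rfl⟩ := (b₂ x).2 η
    obtain rfl : RefHull.stalkMapₗ (pre' L ι) x θ' = θ :=
      (b₁ x).1 ((Groth.L22.PDual.stalkHom_pre' ι x θ').trans hη')
    show RefHull.stalkMapₗ (cokernel.π (pre' L ι)) x (RefHull.stalkMapₗ (pre' L ι) x θ') = 0
    rw [← stalkMapₗ_comp_apply, cokernel.condition]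
    exact stalkMapₗ_zero_apply _ _ x θ'
  let T := ShortComplex.mk (pre' L p) (pre' L ι)
    (by rw [← Groth.L22.PDual.pre'_comp, w, Groth.L22.PDual.pre'_zero])
  have hT : T.ShortExact := by
    rw [Groth.L21.Mod.shortExact_iff_stalk]
    intro x
    have hSx := (Groth.L21.Mod.shortExact_iff_stalk _).1 hS x
    have hg : Function.Surjective (RefHull.stalkMapₗ p x) := (AddCommGrpCat.epi_iff_surjective _).1 hSx.epi_g
    have hfg : ∀ v, RefHull.stalkMapₗ p x v = 0 → ∃ u, RefHull.stalkMapₗ ι x u = v :=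
      (ShortComplex.ab_exact_iff _).1 hSx.exact
    refine
      { exact := (ShortComplex.ab_exact_iff _).2 fun θ hθ => ?_
        mono_f := (AddCommGrpCat.mono_iff_injective _).2 ?_
        epi_g := (AddCommGrpCat.epi_iff_surjective _).2
          ((Groth.L21.Mod.epi_iff_stalk_surjective (pre' L ι)).1 hepi x) }
    · have h0 : (stalkHom P L x θ).comp (RefHull.stalkMapₗ ι x) = 0 :=
        (Groth.L22.PDual.stalkHom_pre' ι x θ).symm.trans ((congrArg (stalkHom K L x) hθ).trans (map_zero _))
      have hker : LinearMap.ker (RefHull.stalkMapₗ p x) ≤ LinearMap.ker (stalkHom P L x θ) := fun v hv => by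
        obtain ⟨u, rfl⟩ := hfg v hv
        exact LinearMap.congr_fun h0 u
      obtain ⟨θ₃, hθ₃⟩ := (b₃ x).2 ((LinearMap.ker (RefHull.stalkMapₗ p x)).liftQ (stalkHom P L x θ) hker ∘ₗ
        ((RefHull.stalkMapₗ p x).quotKerEquivOfSurjective hg).symm.toLinearMap)
      refine ⟨θ₃, (b₂ x).1 ?_⟩
      refine (Groth.L22.PDual.stalkHom_pre' p x θ₃).trans ?_
      rw [hθ₃]
      refine LinearMap.ext fun v => ?_
      have h1 : ((RefHull.stalkMapₗ p x).quotKerEquivOfSurjective hg).symm (RefHull.stalkMapₗ p x v) =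
          Submodule.Quotient.mk v :=
        (LinearEquiv.symm_apply_eq _).2 rfl
      show (LinearMap.ker (RefHull.stalkMapₗ p x)).liftQ (stalkHom P L x θ) hker
        (((RefHull.stalkMapₗ p x).quotKerEquivOfSurjective hg).symm (RefHull.stalkMapₗ p x v)) = _
      rw [h1, Submodule.liftQ_apply]
    · intro θ θ' h
      refine (b₃ x).1 (LinearMap.ext fun v => ?_)
      obtain ⟨u, rfl⟩ := hg v
      exact LinearMap.congr_fun ((Groth.L22.PDual.stalkHom_pre' p x θ).symm.trans
        ((congrArg (stalkHom P L x) h).trans (Groth.L22.PDual.stalkHom_pre' p x θ'))) u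
  -- the kernel is invertible
  have cM : Coh.IsCoh (homMod N L) := Groth.L16.HomSh.isCoh_homMod hN cL
  have hMflat : FlatMod.IsFlat (homMod N L) := fun x => by
    have hTx := (Groth.L21.Mod.shortExact_iff_stalk T).1 hT x
    haveI := Groth.L18.LFP.free_stalk _ hA x
    haveI := Groth.L18.LFP.free_stalk _ hB x
    let f := RefHull.stalkMapₗ (pre' L p) x
    let g := RefHull.stalkMapₗ (pre' L ι) x
    have hf : Function.Injective f := (AddCommGrpCat.mono_iff_injective _).1 hTx.mono_f
    have hg : Function.Surjective g := (AddCommGrpCat.epi_iff_surjective _).1 hTx.epi_g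
    have hfg : Function.Exact f g := fun v =>
      ⟨(ShortComplex.ab_exact_iff _).1 hTx.exact v, fun ⟨u, hu⟩ => by
        rw [← hu]
        show RefHull.stalkMapₗ (pre' L ι) x (RefHull.stalkMapₗ (pre' L p) x u) = 0
        rw [← stalkMapₗ_comp_apply, T.zero]
        exact stalkMapₗ_zero_apply _ _ x u⟩
    obtain ⟨σ, hσ⟩ := Module.projective_lifting_property g LinearMap.id hg
    obtain ⟨e, he, -⟩ := hfg.splitSurjectiveEquiv hf ⟨σ, hσ⟩
    exact Module.Flat.of_retract f ((LinearMap.fst _ _ _).comp e.toLinearMap) (LinearMap.ext fun u => by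
      show (e (f u)).1 = u
      rw [show f u = e.symm (LinearMap.inl _ _ _ u) from LinearMap.congr_fun he u, e.apply_symm_apply]
      rfl)
  have hM : PicF.IsInvertible (homMod N L) := by
    obtain ⟨n, hn⟩ := Groth.L21.Disc.exists_rank (Groth.L15.CohFlat.isFinLocFree_of_isCoh_isFlat _ cM hMflat)
    obtain ⟨θn⟩ := Groth.L22.CurveDeg.nonempty_stalk_equiv hn (genericPoint ↥X)
    obtain ⟨o⟩ := stalk_equiv_of_invertible hL (genericPoint ↥X)
    obtain ⟨o'⟩ := stalk_equiv_of_invertible hL' (genericPoint ↥X)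
    let jη := RefHull.stalkMapₗ j (genericPoint ↥X)
    have hj : Function.Bijective jη := by
      have hseq : (ShortComplex.mk j (cokernel.π j) (cokernel.condition j)).ShortExact :=
        { exact := ShortComplex.exact_cokernel j }
      have hx := (Groth.L21.Mod.shortExact_iff_stalk _).1 hseq (genericPoint ↥X)
      exact ⟨(AddCommGrpCat.mono_iff_injective _).1 hx.mono_f, fun v =>
        (ShortComplex.ab_exact_iff _).1 hx.exact v (@Subsingleton.elim _ hη _ _)⟩
    let e : X.presheaf.stalk (genericPoint ↥X) ≃ₗ[X.presheaf.stalk (genericPoint ↥X)]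
        (homMod N L).presheaf.stalk (genericPoint ↥X) :=
      o.trans ((LinearMap.ringLmapEquivSelf (X.presheaf.stalk (genericPoint ↥X))
          (X.presheaf.stalk (genericPoint ↥X)) _).symm.trans
        ((((LinearEquiv.ofBijective jη hj).trans o'.symm).symm.congrLeft _ _).trans
          (LinearEquiv.ofBijective _ (b₃ (genericPoint ↥X))).symm))
    have h1 : n = 1 := by
      have := (θn.trans e.symm).finrank_eq
      rwa [Module.finrank_fin_fun, Module.finrank_self] at this
    subst h1
    exact Groth.L03.ShStab.ExtTwistPn.isInvertible_of_rank_one hn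
  -- every map extends
  let α : CohB1.tensorMod K (Coh.structureModule X) ⟶ L := (tensorUnitRight K).hom ≫ φ
  obtain ⟨y, hy⟩ : ∃ y, hmap T.g 0 y =
      (Groth.L21.RR.e0 T.X₃).symm ((Groth.L16.HomSh.curryHom α).app ⊤ (Groth.L21.RR.oneSec X)) :=
    (exact_hmap_delta hT 0 _).1 (@Subsingleton.elim _ (hH1 _ hM) _ _)
  let β := Groth.L16.homOfSection T.X₂ (Groth.L21.RR.e0 T.X₂ y)
  have hβ : β ≫ pre' L ι = Groth.L16.HomSh.curryHom α := by
    refine Groth.L03.ShStab.GeneralSections.hom_ext_one ?_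
    show (pre' L ι).app ⊤ (β.app ⊤ (Groth.L21.RR.oneSec X)) = _
    rw [show β.app ⊤ (Groth.L21.RR.oneSec X) = Groth.L21.RR.e0 T.X₂ y from Groth.L21.RR.app_homOfSection_one _,
      ← Groth.L21.RR.e0_hmap]
    exact (congrArg (Groth.L21.RR.e0 T.X₃) hy).trans (AddEquiv.apply_symm_apply _ _)
  let γ := (Groth.L16.HomSh.curryEquiv P (Coh.structureModule X) L).symm β
  have hγ : Groth.L16.HomSh.curryHom γ = β := (Groth.L16.HomSh.curryEquiv P _ L).apply_symm_apply β
  have heq : tensorMap ι (𝟙 (Coh.structureModule X)) ≫ γ = α := by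
    refine (Groth.L16.HomSh.curryEquiv K _ L).injective ?_
    show Groth.L16.HomSh.curryHom _ = Groth.L16.HomSh.curryHom _
    rw [Groth.L22.PDual.curryHom_natural, hγ, hβ]
  refine hφ ((tensorUnitRight P).inv ≫ γ) ?_
  rw [← cancel_epi (tensorUnitRight K).hom, ← Category.assoc, ← Groth.L20.ResDescent.tensorUnitRight_natural,
    Category.assoc, Iso.hom_inv_id_assoc]
  exact heq

/-- Linearity of the stalk of a homomorphism. -/
theorem stalkMapₗ_smul {A B : X.Modules} (c : k) (f : A ⟶ B) (x : X) (v : A.presheaf.stalk x) :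
    RefHull.stalkMapₗ (c • f) x v = Groth.L21.RR.cstAt k x c • RefHull.stalkMapₗ f x v := by
  rw [KLin.smul_def, stalkMapₗ_comp_apply, ← map_smul]
  refine congrArg _ ?_
  obtain ⟨U, hx, m, rfl⟩ := TopCat.Presheaf.exists_germ_eq A.presheaf v
  rw [RefHull.stalkMapₗ_germ]
  refine (congrArg (A.presheaf.germ U x hx) (KLin.smulModΓ_app_apply A _ U m)).trans ?_
  refine (Groth.L00.StalkTensor.germ_smul' (Groth.L00.Tensor.pre A) x hx _ m).trans ?_
  refine congrArg (· • (A.presheaf.germ U x hx m : A.presheaf.stalk x)) ?_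
  exact TopCat.Presheaf.germ_res_apply X.presheaf (homOfLE le_top) x hx _

variable [IsAlgClosed k]

/-- With two independent extension classes some nonsplit extension is not locally free. -/
theorem exists_nonsplit_not_free [HasExt.{u} X.Modules]
    (hH1 : ∀ M : X.Modules, PicF.IsInvertible M → Subsingleton (Coh.HH X M 1))
    {K P N L L' : X.Modules} {ι : K ⟶ P} {p : P ⟶ N} {w : ι ≫ p = 0} (hS : (ShortComplex.mk ι p w).ShortExact)
    (hK : FlatMod.IsFinLocFree K) (hP : FlatMod.IsFinLocFree P) (hPE : Subsingleton (Ext P L 1))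
    (hN : Coh.IsCoh N) (hL : PicF.IsInvertible L) (hL' : PicF.IsInvertible L') (j : N ⟶ L') [Mono j]
    (hη : Subsingleton ((cokernel j).presheaf.stalk (genericPoint ↥X)))
    (h2 : 2 ≤ Module.finrank k (Ext N L 1)) :
    ∃ (V : X.Modules) (a : L ⟶ V) (b : V ⟶ N) (w : a ≫ b = 0),
      (ShortComplex.mk a b w).ShortExact ∧ (∀ r : V ⟶ L, a ≫ r ≠ 𝟙 L) ∧ ¬ FlatMod.IsFinLocFree V := by
  haveI := Groth.L21.RR.isNoetherian_of_proper (X := X) k
  let ε := Ext.precompOfLinear hS.extClass k L (show 1 + 0 = 1 from rfl)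
  let μ : (K ⟶ L) →ₗ[k] Ext N L 1 := ε.comp (Ext.linearEquiv₀.symm.toLinearMap)
  have hμ : Function.Surjective μ := fun e => by
    obtain ⟨y, hy⟩ := Ext.contravariant_sequence_exact₃ hS _ e (@Subsingleton.elim _ hPE _ _) (rfl : 1 + 0 = 1)
    exact ⟨Ext.linearEquiv₀ (R := k) y, (congrArg ε (LinearEquiv.symm_apply_apply _ _)).trans hy⟩
  have hμ0 : ∀ ψ : P ⟶ L, μ (ι ≫ ψ) = 0 := fun ψ => by
    show hS.extClass.comp (Ext.linearEquiv₀.symm (ι ≫ ψ)) rfl = 0
    rw [show (Ext.linearEquiv₀ (R := k)).symm (ι ≫ ψ) = Ext.mk₀ (ι ≫ ψ) from rfl, ← Ext.mk₀_comp_mk₀,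
      ← Ext.comp_assoc_of_second_deg_zero]
    rw [hS.extClass_comp, Ext.zero_comp]
  obtain ⟨e₁, he₁⟩ : ∃ e : Ext N L 1, e ≠ 0 := by
    by_contra hc
    push Not at hc
    haveI : Subsingleton (Ext N L 1) := subsingleton_of_forall_eq 0 hc
    rw [Module.finrank_zero_of_subsingleton] at h2
    omega
  obtain ⟨e₂, he₂⟩ : ∃ e : Ext N L 1, ∀ a : k, a • e₁ ≠ e := by
    by_contra hc
    push Not at hc
    have := finrank_le_one e₁ hc
    omega
  obtain ⟨φ₁, hφ₁⟩ := hμ e₁
  obtain ⟨φ₂, hφ₂⟩ := hμ e₂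
  obtain ⟨x, hx, z, hz1, hz2⟩ := exists_bad_residue k hH1 hS hK hP hN hL hL' j hη (φ := φ₁) fun ψ h =>
    he₁ (by rw [← hφ₁, ← h, hμ0])
  obtain ⟨o⟩ := stalk_equiv_of_invertible hL x
  have hrat := Groth.L21.RR.isRat_of_isClosed k hx
  let val : (K ⟶ L) → X.presheaf.stalk x := fun f => o.symm (RefHull.stalkMapₗ f x z)
  have hmem : ∀ f : K ⟶ L, val f ∈ maximalIdeal (X.presheaf.stalk x) → RefHull.stalkMapₗ f x z ∈
      maximalIdeal (X.presheaf.stalk x) • (⊤ : Submodule (X.presheaf.stalk x) (L.presheaf.stalk x)) := fun f hf => by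
    have h : RefHull.stalkMapₗ f x z = val f • o 1 := by
      rw [← map_smul, smul_eq_mul, mul_one, LinearEquiv.apply_symm_apply]
    rw [h]
    exact Submodule.smul_mem_smul hf trivial
  obtain ⟨φ, hne, hmem'⟩ : ∃ φ, μ φ ≠ 0 ∧ val φ ∈ maximalIdeal (X.presheaf.stalk x) := by
    obtain ⟨c₁, hc₁⟩ := hrat (val φ₁)
    obtain ⟨c₂, hc₂⟩ := hrat (val φ₂)
    by_cases h0 : c₁ = 0
    · refine ⟨φ₁, hφ₁.symm ▸ he₁, ?_⟩
      rw [h0, map_zero, sub_zero] at hc₁
      exact hc₁
    · refine ⟨c₁ • φ₂ + (-c₂) • φ₁, fun h => he₂ (c₁⁻¹ * c₂) ?_, ?_⟩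
      · rw [map_add, map_smul, map_smul, hφ₁, hφ₂, neg_smul, ← sub_eq_add_neg, sub_eq_zero] at h
        rw [mul_smul, ← h, inv_smul_smul₀ h0]
      · have hval : val (c₁ • φ₂ + (-c₂) • φ₁) = Groth.L21.RR.cstAt k x c₁ * (val φ₂ - Groth.L21.RR.cstAt k x c₂) -
            Groth.L21.RR.cstAt k x c₂ * (val φ₁ - Groth.L21.RR.cstAt k x c₁) := by
          have hadd : ∀ f g : K ⟶ L, RefHull.stalkMapₗ (f + g) x z = RefHull.stalkMapₗ f x z + RefHull.stalkMapₗ g x z :=
            fun f g => by
              haveI : (Groth.L21.Mod.stalkF X x).Additive := inferInstance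
              exact congr($((Groth.L21.Mod.stalkF X x).map_add (f := f) (g := g)) z)
          simp only [val]
          rw [hadd, stalkMapₗ_smul, stalkMapₗ_smul, map_neg, map_add, map_smul, map_smul, smul_eq_mul, smul_eq_mul]
          ring
        rw [hval]
        exact Ideal.sub_mem _ (Ideal.mul_mem_left _ _ hc₂) (Ideal.mul_mem_left _ _ hc₁)
  let V := pushout φ ι
  let a : L ⟶ V := pushout.inl φ ι
  let ψ : P ⟶ V := pushout.inr φ ι
  let b : V ⟶ N := pushout.desc 0 p (by rw [comp_zero, w])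
  have hψb : ψ ≫ b = p := pushout.inr_desc _ _ _
  have wv : a ≫ b = 0 := pushout.inl_desc _ _ _
  haveI : Mono ι := hS.mono_f
  haveI : Epi p := hS.epi_g
  haveI : Mono a := inferInstanceAs (Mono (pushout.inl φ ι))
  haveI : Epi b := by
    haveI : Epi (ψ ≫ b) := by rw [hψb]; infer_instance
    exact epi_of_epi ψ b
  have hc : ∀ {Z : X.Modules} (g : V ⟶ Z), a ≫ g = 0 → ι ≫ ψ ≫ g = 0 := fun g hg => by
    rw [← Category.assoc, ← pushout.condition, Category.assoc]
    exact (congrArg (φ ≫ ·) hg).trans comp_zero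
  have hV : (ShortComplex.mk a b wv).ShortExact :=
    { exact := ShortComplex.exact_of_g_is_cokernel _ (CokernelCofork.IsColimit.ofπ b wv
        (fun g hg => (CokernelCofork.IsColimit.desc' hS.gIsCokernel (ψ ≫ g) (hc g hg)).1)
        (fun g hg => by
          have h := (CokernelCofork.IsColimit.desc' hS.gIsCokernel (ψ ≫ g) (hc g hg)).2
          refine pushout.hom_ext ?_ ?_
          · rw [← Category.assoc]
            exact ((congrArg (· ≫ _) wv).trans zero_comp).trans hg.symm
          · rw [← Category.assoc]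
            exact (congrArg (· ≫ _) hψb).trans h)
        (fun g hg m hm => by
          have h := (CokernelCofork.IsColimit.desc' hS.gIsCokernel (ψ ≫ g) (hc g hg)).2
          rw [← cancel_epi p]
          refine Eq.trans ?_ h.symm
          exact (congrArg (· ≫ m) hψb).symm.trans ((Category.assoc _ _ _).trans (congrArg (ψ ≫ ·) hm)))) }
  refine ⟨V, a, b, wv, hV, fun r hr => hne ?_, not_isFinLocFree_pushout hS φ a ψ b pushout.condition hψb hV x hz1 hz2
    (hmem φ hmem')⟩
  rw [show φ = ι ≫ (ψ ≫ r) from by rw [← Category.assoc, ← pushout.condition, Category.assoc, hr, Category.comp_id]]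
  exact hμ0 _

end Groth.L03.SurfExt
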