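import Groth.Agent.L03.SurfExt.DualMap

/-!
Good modules supported on an integral curve in a surface.
-/

set_option autoImplicit false
set_option backward.isDefEq.respectTransparency false
set_option linter.style.haveILetI false
set_option linter.unusedSectionVars false
universe u

open CategoryTheory CategoryTheory.Limits CategoryTheory.Abelian AlgebraicGeometry TopologicalSpace Opposite
open IsLocalRing

noncomputable section

namespace Groth.L03.SurfExt

open Groth.L21.RR (SuppClosed)
open Groth.L22.ExtSh (E)
open Groth.L16.CohLinear (hmap overLin exact_hmap_hmap exact_hmap_delta exact_delta_hmap)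

variable {X C : Scheme.{u}} [IsIntegral X] [IsIntegral C] (j : C ⟶ X) [IsClosedImmersion j]

/-- The image of the generic point of the curve. -/
abbrev ηC : X := j (genericPoint ↥C)

variable [IsLocallyNoetherian X] (hX : topologicalKrullDim X = 2) (hC : topologicalKrullDim C = 1)

theorem isField_stalk_eta : IsField (C.presheaf.stalk (genericPoint ↥C)) :=
  Groth.L22.ExtSh.isField_stalk_of_component (by
    rw [genericPoint_closure, irreducibleComponents_eq_singleton]
    exact rfl)

include hC in
theorem not_isClosed_ηC : ¬ IsClosed ({ηC j} : Set ↥X) := fun hx => by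
  refine Groth.L21.Bundle.not_isClosed_generic hC ?_
  have : ({genericPoint ↥C} : Set C) = j ⁻¹' {j (genericPoint ↥C)} := by
    ext z
    simp [j.isClosedEmbedding.injective.eq_iff]
  rw [this]
  exact hx.preimage j.continuous

include hX hC in
theorem dim_ηC : ringKrullDim (X.presheaf.stalk (ηC j)) = (1 : ℕ) := by
  refine le_antisymm ((ringKrullDim_le_one hX.le (not_isClosed_ηC j hC)).trans (by simp)) ?_
  have hne : genericPoint ↥X ≠ ηC j := fun h => genericPoint_notMem_range hX j hC ⟨_, h.symm⟩
  have h := Groth.L06.FibTrdeg.ringKrullDim_stalk_lt ((genericPoint_spec ↥X).specializes trivial : genericPoint ↥X ⤳ ηC j) hne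
  have h0 : (0 : WithBot ℕ∞) < ringKrullDim (X.presheaf.stalk (ηC j)) := ringKrullDim_nonneg_of_nontrivial.trans_lt h
  obtain ⟨d, hd⟩ := WithBot.ne_bot_iff_exists.1 (ringKrullDim_ne_bot (R := X.presheaf.stalk (ηC j)))
  rw [← hd] at h0 ⊢
  rw [Nat.cast_one]
  exact WithBot.coe_le_coe.2 (Order.one_le_iff_pos.2 (WithBot.coe_lt_coe.1 h0))

include hX hC in
/-- Modules supported on the curve and zero at its generic point have finite support. -/
theorem suppClosed_of_subsingleton {F : X.Modules} (hsupp : CohB1.support F ⊆ Set.range j)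
    (hη : Subsingleton (F.presheaf.stalk (ηC j))) : SuppClosed F := fun x hx => by
  by_contra hns
  obtain ⟨c, rfl⟩ := hsupp (show x ∈ CohB1.support F from hns)
  have hc : c ≠ genericPoint ↥C := fun h => hns (by subst h; exact hη)
  have hne : ηC j ≠ j c := fun h => hc (j.isClosedEmbedding.injective h).symm
  have h := Groth.L06.FibTrdeg.ringKrullDim_stalk_lt
    (((genericPoint_spec ↥C).specializes trivial : genericPoint ↥C ⤳ c).map j.continuous) hne
  exact absurd ((ringKrullDim_le_one hX.le hx).trans (dim_ηC j hX hC ▸ le_of_eq Nat.cast_one.symm)) (not_le.2 h)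

include hX hC in
/-- A nonzero good module on the curve is nonzero at the generic point of the curve. -/
theorem nontrivial_stalk_ηC {F : X.Modules} (hF : Good F) (hsupp : CohB1.support F ⊆ Set.range j)
    (hne : ¬ IsZero F) : Nontrivial (F.presheaf.stalk (ηC j)) := by
  by_contra h
  rw [not_nontrivial_iff_subsingleton] at h
  refine hne ((Groth.L21.Mod.isZero_iff_support_eq_empty F).2 (Set.eq_empty_iff_forall_notMem.2 fun x hx => hx ?_))
  exact subsingleton_stalk_of_suppClosed hF (suppClosed_of_subsingleton j hX hC hsupp h) x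

theorem isCoh_push_of {M : C.Modules} (hM : Coh.IsCoh M) : Coh.IsCoh ((Coh.push j).obj M) :=
  haveI : IsLocallyNoetherian C := LocallyOfFiniteType.isLocallyNoetherian j
  Groth.L16.CohClosedPush.isCoh_push j hM

include hX hC in
theorem good_push {M : C.Modules} (hM : Coh.IsCoh M) (hMtf : TorSh.IsTorsionFree M) :
    Good ((Coh.push j).obj M) := by
  haveI : IsLocallyNoetherian C := LocallyOfFiniteType.isLocallyNoetherian j
  refine ⟨isCoh_push_of j hM, ?_, fun x hx hns => ?_⟩
  · by_contra h
    exact genericPoint_notMem_range hX j hC (Groth.L16.CohClosedPush.support_push_subset j M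
      (show genericPoint ↥X ∈ CohB1.support _ from h))
  · obtain ⟨c, rfl⟩ := Groth.L16.CohClosedPush.support_push_subset j M (show x ∈ CohB1.support _ from hns)
    exact one_le_depth_push j hMtf fun hc => not_isClosed_ηC j hC (by subst hc; exact hx)

/-- A rank one module on the curve is simple at the generic point. -/
theorem simple_push {M : C.Modules}
    (hrk : Module.finrank (C.presheaf.stalk (genericPoint ↥C)) (M.presheaf.stalk (genericPoint ↥C)) = 1) :
    Simple (X.presheaf.stalk (ηC j)) (((Coh.push j).obj M).presheaf.stalk (ηC j)) := by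
  let c := genericPoint ↥C
  have hb := Groth.L17.ClosedPush.c₀_bijective j M c
  have hs : ∀ r v, Groth.L17.ClosedPush.c₀ j M c (r • v) = (j.stalkMap c) r • Groth.L17.ClosedPush.c₀ j M c v :=
    Groth.L17.ClosedPush.c₀_smul j M c
  letI := (isField_stalk_eta (C := C)).toField
  refine ⟨fun a ha v => hb.1 ?_, ?_⟩
  · refine (hs a v).trans ?_
    have h0 : (j.stalkMap c) a = 0 := by
      by_contra hne
      exact ha (isUnit_of_map_unit (j.stalkMap c).hom a
        (isUnit_iff_exists.2 (by
          obtain ⟨b, hb⟩ := (isField_stalk_eta (C := C)).mul_inv_cancel hne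
          exact ⟨b, hb, by rw [mul_comm]; exact hb⟩)))
    rw [h0]
    exact (zero_smul _ _).trans (map_zero _).symm
  · obtain ⟨g₀, hg0, hgen⟩ := finrank_eq_one_iff'.1 hrk
    obtain ⟨g, rfl⟩ := hb.2 g₀
    refine ⟨g, fun z => ?_⟩
    obtain ⟨r, hr⟩ := hgen (Groth.L17.ClosedPush.c₀ j M c z)
    obtain ⟨r', rfl⟩ := j.stalkMap_surjective c r
    exact ⟨r', hb.1 ((hs r' g).trans hr)⟩

theorem support_subset_of_mono {A F : X.Modules} (i : A ⟶ F) [Mono i] : CohB1.support A ⊆ CohB1.support F :=
  fun x hx h => hx (@Function.Injective.subsingleton _ _ _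
    ((Groth.L21.Mod.mono_iff_stalk_injective i).1 inferInstance x) h)

include hX hC in
/-- A nonzero submodule of a rank one good module on the curve has finite cokernel. -/
theorem suppClosed_cokernel {A F : X.Modules} (i : A ⟶ F) [Mono i] (hA : Good A)
    (hsupp : CohB1.support F ⊆ Set.range j) (hne : ¬ IsZero A)
    (hsimp : Simple (X.presheaf.stalk (ηC j)) (F.presheaf.stalk (ηC j))) :
    SuppClosed (cokernel i) ∧ Simple (X.presheaf.stalk (ηC j)) (A.presheaf.stalk (ηC j)) ∧
      Nontrivial (A.presheaf.stalk (ηC j)) := by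
  haveI := nontrivial_stalk_ηC j hX hC hA ((support_subset_of_mono i).trans hsupp) hne
  let f := RefHull.stalkMapₗ i (ηC j)
  have hinj : Function.Injective f := (Groth.L21.Mod.mono_iff_stalk_injective i).1 inferInstance _
  have hsurj := hsimp.surjective f hinj
  refine ⟨?_, ⟨fun a ha v => hinj (by rw [map_smul, hsimp.kills a ha, map_zero]), ?_⟩, inferInstance⟩
  · refine suppClosed_of_subsingleton j hX hC (fun x hx => hsupp fun h => hx ?_) ?_
    · exact @Function.Surjective.subsingleton _ _ _ h
        ((Groth.L21.Mod.epi_iff_stalk_surjective (cokernel.π i)).1 inferInstance x)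
    · refine subsingleton_of_forall_eq 0 fun z => ?_
      obtain ⟨y, rfl⟩ := (Groth.L21.Mod.epi_iff_stalk_surjective (cokernel.π i)).1 inferInstance (ηC j) z
      obtain ⟨v, rfl⟩ := hsurj y
      exact congr($(((Groth.L21.Mod.stalkF X (ηC j)).map_comp i (cokernel.π i)).symm.trans
        ((congrArg (Groth.L21.Mod.stalkF X (ηC j)).map (cokernel.condition i)).trans (Functor.map_zero _ _ _))) v)
  · obtain ⟨g, hg⟩ := hsimp.cyclic
    obtain ⟨g', rfl⟩ := hsurj g
    refine ⟨g', fun z => ?_⟩
    obtain ⟨r, hr⟩ := hg (f z)
    exact ⟨r, hinj (by rw [map_smul]; exact hr)⟩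

end Groth.L03.SurfExt
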